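import Cfsg.Agent.R2.Spec.X4.H4.Ctx

/-!
# X4, the rows `L_n`, `U_n` (`n ≥ 4`) (helper4)

* `row_psl`, `row_psu`.
-/

set_option autoImplicit false
set_option linter.unusedVariables false

namespace Cfsg.Agent.R2.Spec.X4.H4

open Cfsg Cfsg.Agent.H426.LieFam Cfsg.Agent.R2.Spec Cfsg.Agent.R2.Spec.P1 Cfsg.Agent.R2.Spec.F1
open Cfsg.Agent.R2.Spec.X4 Cfsg.Agent.H376.Six
open Cfsg.Agent.H72

universe u

variable {p q k A k' B m i : ℕ} {W : ℕ → Prop} {S : Type u} [Group S] {t : Fam} {v f n : ℕ}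

/-! ### congruences -/

theorem cast_one {N r : ℕ} (hr : 1 < r) (hN : N ≠ 0) (h : ∀ y : ℕ, y.Prime → y ∣ N → y % r = 1) :
    ((N : ℕ) : ZMod r) = 1 := F1.cast_eq_one hr hN h

/-- `z ≡ 1 mod w` for a prime `w` of `k'` is impossible -/
theorem Row.n1 (R : Row p q k A k' B m i W S t v f n) {w : ℕ} (hw : w.Prime) (hk : w ∣ k')
    (h : ∀ x : ℕ, x.Prime → x ∣ (q ^ 2 + 1) / 2 → x % w = 1) : False := by
  have h1 := cast_one hw.one_lt (by have := R.h.lw.side.z; omega) h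
  have h2 := R.h.lw.side.prime R.h.lw.q2 hw (Or.inr hk)
  apply h2.2.2.2
  have h3 := R.h.lw.side.z.1
  have h4 : ((q : ℕ) : ZMod w) ^ 2 = 1 := by
    have h5 : ((2 * ((q ^ 2 + 1) / 2) : ℕ) : ZMod w) = ((q ^ 2 + 1 : ℕ) : ZMod w) := by rw [h3]
    push_cast at h5
    have h6 : (((q ^ 2 + 1) / 2 : ℕ) : ZMod w) = 1 := h1
    rw [h6] at h5
    linear_combination -h5
  rw [← ZMod.natCast_eq_zero_iff, Nat.cast_sub (Nat.one_le_pow _ _ (by have := R.h.lw.q2; omega))]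
  push_cast
  linear_combination (((q : ℕ) : ZMod w) ^ 2 + 1) * h4

theorem two_ne {r : ℕ} (hr : r.Prime) (h : 5 ≤ r) : ((2 : ℕ) : ZMod r) ≠ 0 := by
  intro h1
  rw [ZMod.natCast_eq_zero_iff] at h1
  have := Nat.le_of_dvd (by norm_num) h1
  omega

/-- `k ≡ k' ≡ 1 mod r` for a prime `r` of `z` is impossible -/
theorem Row.n2 (R : Row p q k A k' B m i W S t v f n) {r : ℕ} (hr : r.Prime) (hz : r ∣ (q ^ 2 + 1) / 2)
    (h : ∀ x : ℕ, x.Prime → (x ∣ k ∨ x ∣ k') → x % r = 1) : False := by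
  have hfr := Fact.mk hr
  obtain ⟨k0, k0'⟩ := R.h.lw.k_pos
  have h1 : ((k : ℕ) : ZMod r) = 1 := cast_one hr.one_lt (by omega) fun x hx hd => h x hx (Or.inl hd)
  have h2 : ((k' : ℕ) : ZMod r) = 1 := cast_one hr.one_lt (by omega) fun x hx hd => h x hx (Or.inr hd)
  have h5 := (R.h.lw.side.z_prime R.h.lw.q2 hr hz).1
  have hq : ((q : ℕ) : ZMod r) ^ 2 = -1 := by
    have h3 : r ∣ q ^ 2 + 1 := by rw [← R.h.lw.side.z.1]; exact hz.mul_left 2
    rw [← ZMod.natCast_eq_zero_iff] at h3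
    push_cast at h3
    linear_combination h3
  have hqq : q ≤ q ^ 2 := Nat.le_self_pow two_ne_zero q
  have key : ∀ a b : ℕ, ((a : ℕ) : ZMod r) = 1 → ((b : ℕ) : ZMod r) = 1 →
      (a = q ^ 2 + q + 1 ∨ 3 * a = q ^ 2 + q + 1 ∧ q % 3 = 1) →
      (b = q ^ 2 - q + 1 ∨ 3 * b = q ^ 2 - q + 1 ∧ q % 3 = 2) → False := by
    intro a b ha hb h3 h4
    have e1 : ∃ g : ℕ, (g = 1 ∨ (g = 3 ∧ q % 3 = 1)) ∧ (g : ZMod r) = (q : ZMod r) := by
      rcases h3 with h3 | ⟨h3, h3'⟩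
      · refine ⟨1, Or.inl rfl, ?_⟩
        have := congrArg (fun x : ℕ => (x : ZMod r)) h3
        push_cast at this ⊢
        rw [ha] at this
        linear_combination this + hq
      · refine ⟨3, Or.inr ⟨rfl, h3'⟩, ?_⟩
        have := congrArg (fun x : ℕ => (x : ZMod r)) h3
        push_cast at this ⊢
        rw [ha] at this
        linear_combination this + hq
    have e2 : ∃ g : ℕ, (g = 1 ∨ (g = 3 ∧ q % 3 = 2)) ∧ (g : ZMod r) = -(q : ZMod r) := by
      rcases h4 with h4 | ⟨h4, h4'⟩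
      · refine ⟨1, Or.inl rfl, ?_⟩
        have := congrArg (fun x : ℕ => (x : ZMod r)) h4
        push_cast [Nat.cast_sub hqq] at this ⊢
        rw [hb] at this
        linear_combination this + hq
      · refine ⟨3, Or.inr ⟨rfl, h4'⟩, ?_⟩
        have := congrArg (fun x : ℕ => (x : ZMod r)) h4
        push_cast [Nat.cast_sub hqq] at this ⊢
        rw [hb] at this
        linear_combination this + hq
    obtain ⟨g, hg, hg'⟩ := e1
    obtain ⟨g₂, hg₂, hg₂'⟩ := e2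
    have e3 : ((g + g₂ : ℕ) : ZMod r) = 0 := by
      push_cast
      rw [hg', hg₂']
      ring
    rw [ZMod.natCast_eq_zero_iff] at e3
    rcases hg with rfl | ⟨rfl, hg⟩ <;> rcases hg₂ with rfl | ⟨rfl, hg₂⟩
    · have := Nat.le_of_dvd (by norm_num) e3; omega
    · have := Nat.le_of_dvd (by norm_num) e3; omega
    · have := Nat.le_of_dvd (by norm_num) e3; omega
    · omega
  rcases R.h.lw.side.cof R.h.lw.q2 with ⟨-, a, b⟩ | ⟨-, a, b⟩
  · exact key _ _ h1 h2 a b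
  · exact key _ _ h2 h1 a b

/-- `k ≡ k' ≡ 1 mod p` is impossible for `p ≥ 5` -/
theorem Row.n3 (R : Row p q k A k' B m i W S t v f n) (hp5 : 5 ≤ p)
    (h : ∀ x : ℕ, x.Prime → (x ∣ k ∨ x ∣ k') → x % p = 1) : False := by
  have hfr := Fact.mk R.h.lw.pp
  obtain ⟨k0, k0'⟩ := R.h.lw.k_pos
  have h1 : ((k : ℕ) : ZMod p) = 1 := cast_one R.h.lw.pp.one_lt (by omega) fun x hx hd => h x hx (Or.inl hd)
  have h2 : ((k' : ℕ) : ZMod p) = 1 := cast_one R.h.lw.pp.one_lt (by omega) fun x hx hd => h x hx (Or.inr hd)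
  have hq0 : ((q : ℕ) : ZMod p) = 0 := (ZMod.natCast_eq_zero_iff q p).2 R.h.lw.p_dvd
  have hqq : q ≤ q ^ 2 := Nat.le_self_pow two_ne_zero q
  have hq2 := R.h.lw.q2
  have key : ((ap q : ℕ) : ZMod p) = 1 → ((am q : ℕ) : ZMod p) = 1 → False := by
    intro ha hb
    have e1 := (ap_spec hq2).1
    have e2 := (am_spec hq2).1
    have f1 : ((Nat.gcd 3 (q - 1) : ℕ) : ZMod p) = 1 := by
      have := congrArg (fun x : ℕ => (x : ZMod p)) e1
      push_cast at this
      rw [ha, hq0] at this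
      linear_combination this
    have f2 : ((Nat.gcd 3 (q + 1) : ℕ) : ZMod p) = 1 := by
      have := congrArg (fun x : ℕ => (x : ZMod p)) e2
      push_cast [Nat.cast_sub hqq] at this
      rw [hb, hq0] at this
      linear_combination this
    have three : ((3 : ℕ) : ZMod p) ≠ 1 := by
      intro h3
      apply two_ne R.h.lw.pp hp5
      push_cast at h3 ⊢
      linear_combination h3
    have h3q : q % 3 ≠ 0 := by
      intro h3
      obtain ⟨e, he⟩ := R.h.lw.qp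
      have h4 : 3 ∣ p := Nat.prime_three.dvd_of_dvd_pow (he ▸ Nat.dvd_of_mod_eq_zero h3)
      have := (Nat.prime_dvd_prime_iff_eq Nat.prime_three R.h.lw.pp).1 h4
      omega
    rcases (by omega : q % 3 = 1 ∨ q % 3 = 2) with h4 | h4
    · apply three
      rw [← f1, Nat.gcd_eq_left (by omega : 3 ∣ q - 1)]
    · apply three
      rw [← f2, Nat.gcd_eq_left (by omega : 3 ∣ q + 1)]
  rcases R.h.lw.side with ⟨-, rfl, -, rfl, -⟩ | ⟨-, rfl, -, rfl, -⟩
  · exact key h1 h2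
  · exact key h2 h1

/-! ### the two kills -/

/-- the primes of `z` cannot all be in big classes -/
theorem Row.zkill (R : Row p q k A k' B m i W S t v f n) (hz : ∃ g : S, orderOf g = (q ^ 2 + 1) / 2)
    (h : ∀ x : ℕ, x.Prime → x ∣ (q ^ 2 + 1) / 2 → n < 2 * cls t (v ^ f) x) : False := by
  have hn := R.hn
  obtain ⟨i0, T, hND, -, hA, h2, h3⟩ := R.nd
  have hzz := R.h.lw.side.z
  have hz1 : (q ^ 2 + 1) / 2 ≠ 1 := by
    have := R.h.lw.q7
    have : 7 ^ 2 ≤ q ^ 2 := Nat.pow_le_pow_left this 2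
    omega
  obtain ⟨x₀, hx₀, hxz⟩ := Nat.exists_prime_and_dvd hz1
  set s := cls t (v ^ f) x₀ with hs
  have hall : ∀ x : ℕ, x.Prime → x ∣ (q ^ 2 + 1) / 2 → cls t (v ^ f) x = s := fun x hx hd =>
    R.same hz hx hx₀ hd hxz (h x hx hd) (h x₀ hx₀ hxz)
  obtain ⟨hdvd, hreg⟩ := R.cls_dvd hz hall (h x₀ hx₀ hxz)
  have hs2 := h x₀ hx₀ hxz
  have hsn : s ≤ n := R.cls_le hx₀ (by omega) (R.dvd_card hz hxz)
  rcases Nat.lt_or_ge q 50 with hq | hq
  · exact (hND.small hq).1 s (by omega) hsn hdvd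
  · refine hND.no_z hq hzz.1 (by omega) hsn ?_ hdvd hreg ?_
    · intro he
      exact (R.h.lw.side.z_prime R.h.lw.q2 hx₀ hxz).2.2.1 (hA x₀ hx₀ (by rw [← hs, he]))
    · rw [Int.isCoprime_iff_gcd_eq_one]
      change Nat.gcd (sg t (v ^ f)).natAbs ((q ^ 2 + 1) / 2) = 1
      rw [R.natAbs]
      apply Nat.Coprime.pow_left
      rw [Nat.Prime.coprime_iff_not_dvd R.hv]
      intro hd
      have h5 := h v R.hv hd
      exact (R.reg R.hv (by omega)).2.1 rfl

/-- a prime of class `i0` and the primes of `k'`, `z`, `p` -/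
theorem Row.bad_aux (R : Row p q k A k' B m i W S t v f n) {r x : ℕ} (hr : r.Prime) (hrm : r ∣ m) (hrv : r ≠ v)
    (hrk : ∀ y : ℕ, y.Prime → y ∣ k → y ≠ r ∧ ¬ W (y * r)) (hx : x.Prime) (hx2 : x ≠ 2) (hxr : x ≠ r)
    (hxS : x ∣ Nat.card S) (hna : ¬ W (x * r)) (hxA : ¬ x ∣ A) : x = v := by
  obtain ⟨i0, T, hND, hk, hA, h2, h3⟩ := R.nd
  obtain ⟨r₀, hr₀, hrk₀⟩ := Nat.exists_prime_and_dvd R.h.lw.k_pos.1.ne'
  have hn := R.hn
  have hne := R.ne_small
  have key : ∀ y : ℕ, y.Prime → y ≠ 2 → y ≠ r → y ∣ Nat.card S → ¬ W (y * r) →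
      y = v ∨ An t (cls t (v ^ f) y) := by
    intro y hy hy2 hyr hyS hyna
    rcases SX.kcase R.h R.cla R.hv R.hI hr hrm hrv hy hy2 hyr hyS hyna with h4 | h4 | h4 | h4
    · exact Or.inl h4
    · exact Or.inr h4.2
    · exact absurd h4.1 hne.1
    · exact absurd h4.1 hne.2
  obtain ⟨h5, h6⟩ := hrk r₀ hr₀ hrk₀
  have hr7 := (R.h.lw.side.prime R.h.lw.q2 hr₀ (Or.inl hrk₀)).1
  have hi0 : An t i0 := by
    rcases key r₀ hr₀ (by omega) h5 (R.dvd_card (R.h.kS R.hg) hrk₀) h6 with h7 | h7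
    · exfalso
      exact (R.reg hr₀ (R.k_top hr₀ hrk₀).1).2.1 h7
    · rwa [hk r₀ hr₀ hrk₀] at h7
  rcases key x hx hx2 hxr hxS hna with h7 | h7
  · exact h7
  · exact absurd (hA x hx (R.An_uniq h7 hi0)) hxA

/-- a bad prime which is not in the case `r ∣ m`, `r ≠ v` forces the nonadjacent primes into the two top classes, or
`≡ 1 mod r` -/
theorem Row.bad_top (R : Row p q k A k' B m i W S t v f n) {r : ℕ} (hr : r.Prime) (hr5 : 5 ≤ r) (hrB : r ∣ m * i)
    (hcase : ¬ (r ∣ m ∧ r ≠ v)) :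
    (∀ x : ℕ, x.Prime → x ≠ 2 → x ≠ r → x ∣ Nat.card S → ¬ W (r * x) → n < cls t (v ^ f) x + 2 ∧
      3 ≤ cls t (v ^ f) x) ∨
    (¬ r ∣ m ∧ ∀ x : ℕ, x.Prime → 5 ≤ x → x ≠ r → x ∣ Nat.card S → ¬ W (r * x) → x % r = 1) := by
  have hn := R.hn
  have := R.h.fin
  by_cases hrm : r ∣ m
  · have hrv : r = v := by
      by_contra h
      exact hcase ⟨hrm, h⟩
    left
    intro x hx hx2 hxr hxS hna
    rcases vcase R.cla R.hv R.hI hx hx2 (by rw [← hrv]; exact hxr) hxS (by rw [← hrv]; exact SX.notS R.h hna) with h | h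
    · exact ⟨(R.nap_iff _).1 h.2, h.1⟩
    · have := h.2.1
      rw [R.rk_eq] at this
      omega
  · have hri : r ∣ i := (hr.dvd_mul.1 hrB).resolve_left hrm
    by_cases hrd : r ∣ dg t (v ^ f)
    · left
      intro x hx hx2 hxr hxS hna
      obtain ⟨h1, h2, -⟩ := dcase R.cla R.hv R.hI hr hr5 hrd hx hxr (SX.notS R.h hna)
      rw [R.rk_eq] at h2
      exact ⟨h2, h1⟩
    · right
      refine ⟨hrm, ?_⟩
      intro x hx hx5 hxr hxS hna
      exact (SX.fcase R.h R.cla R.hv R.hI hr hr5 hri hrd hx hx5 hxr hxS hna).2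

/-! ### state II -/

theorem Row.stateII (R : Row p q k A k' B m i W S t v f n) {w : ℕ} (hw : w.Prime) (hwk : w ∣ k') (hwB : w ∣ m * i)
    (hgood : ∀ r : ℕ, r.Prime → (r ∣ (q ^ 2 + 1) / 2 ∨ r = p) → ¬ r ∣ m ∧ ¬ r ∣ i) : False := by
  have hn := R.hn
  have := R.h.fin
  have hw7 := (R.h.lw.side.prime R.h.lw.q2 hw (Or.inr hwk)).1
  have hpz := R.h.pzS hgood
  have hz := exists_order_of_dvd hpz (dvd_mul_left _ p)
  have hpS : p ∣ Nat.card S := R.dvd_card hpz (dvd_mul_right _ _)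
  have hna : ∀ x : ℕ, x.Prime → (x ∣ (q ^ 2 + 1) / 2 ∨ x = p) → x ≠ w ∧ ¬ W (w * x) := by
    intro x hx hxz
    exact ⟨(R.h.lw.ne_kz hw (Or.inr hwk) hxz).symm, fun hW =>
      R.h.lw.naz hw (Or.inr hwk) hx hxz hW (dvd_mul_right _ _) (dvd_mul_left _ _)⟩
  obtain ⟨hpw, hpna⟩ := hna p R.h.lw.pp (Or.inr rfl)
  have hcase : ¬ (w ∣ m ∧ w ≠ v) := by
    rintro ⟨hwm, hwv⟩
    have := R.bad_aux hw hwm hwv (fun y hy hyk => ⟨R.h.lw.ne_kk hy hyk hwk, fun hW =>
      R.h.lw.na hy hyk hw hwk hW (dvd_mul_right _ _) (dvd_mul_left _ _)⟩) R.h.lw.pp R.h.lw.p2 hpw hpS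
      (by rw [mul_comm]; exact hpna) R.h.lw.p_not.1
    exact R.hvp this.symm
  rcases R.bad_top hw (by omega) hwB hcase with h1 | ⟨-, h1⟩
  · apply R.zkill hz
    intro x hx hxz
    obtain ⟨h2, h3⟩ := hna x hx (Or.inl hxz)
    have h4 := (R.h.lw.side.z_prime R.h.lw.q2 hx hxz).1
    have := h1 x hx (by omega) h2 (R.dvd_card hz hxz) h3
    omega
  · apply R.n1 hw hwk
    intro x hx hxz
    obtain ⟨h2, h3⟩ := hna x hx (Or.inl hxz)
    exact h1 x hx (R.h.lw.side.z_prime R.h.lw.q2 hx hxz).1 h2 (R.dvd_card hz hxz) h3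

/-! ### the surviving families -/

theorem Row.wprimes (R : Row p q k A k' B m i W S t v f n) {r : ℕ} (hr : r.Prime) (hr2 : r ≠ 2) (hW : W r) :
    r = p ∨ r ∣ A ∨ r ∣ B ∨ r ∣ (q ^ 2 + 1) / 2 := by
  have h1 := R.h.lw.exp r hW
  have hco : ¬ r ∣ 2 := fun hd => hr2 ((Nat.prime_dvd_prime_iff_eq hr Nat.prime_two).1 hd)
  rcases hr.dvd_mul.1 h1 with h2 | h2
  · exact Or.inl ((Nat.prime_dvd_prime_iff_eq hr R.h.lw.pp).1 (hr.dvd_of_dvd_pow h2))
  · rcases hr.dvd_mul.1 h2 with h3 | h3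
    · have h4 : q ^ 6 - 1 = (2 * A) * (2 * B) := by
        have h5 : q ^ 6 = q ^ 3 * q ^ 3 := by ring
        have h6 : 0 < q ^ 3 := by have := R.h.lw.q2; positivity
        rcases R.h.lw.side.two_mul with ⟨-, a, b, -⟩ | ⟨-, a, b, -⟩
        · rw [b, h5, ← a]
          have : (2 * A + 1) * (2 * A + 1) - 1 = 2 * A * (2 * A + 1 + 1) := by
            have e : (2 * A + 1) * (2 * A + 1) = 2 * A * (2 * A + 1 + 1) + 1 := by ring
            omega
          exact this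
        · rw [a, h5, ← b]
          have : (2 * B + 1) * (2 * B + 1) - 1 = (2 * B + 1 + 1) * (2 * B) := by
            have e : (2 * B + 1) * (2 * B + 1) = (2 * B + 1 + 1) * (2 * B) + 1 := by ring
            omega
          exact this
      rw [h4] at h3
      rcases hr.dvd_mul.1 h3 with h5 | h5
      · exact Or.inr (Or.inl ((hr.dvd_mul.1 h5).resolve_left hco))
      · exact Or.inr (Or.inr (Or.inl ((hr.dvd_mul.1 h5).resolve_left hco)))
    · rw [← R.h.lw.side.z.1] at h3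
      exact Or.inr (Or.inr (Or.inr ((hr.dvd_mul.1 h3).resolve_left hco)))

theorem Row.famkill (R : Row p q k A k' B m i W S t v f n) (hk' : ∀ r : ℕ, r.Prime → r ∣ k' → ¬ r ∣ m ∧ ¬ r ∣ i)
    (hreg : ∀ r : ℕ, r.Prime → r ∣ k' → n < 2 * cls t (v ^ f) r) (hq : 50 ≤ q)
    (hF : Fam3 A B (sg t (v ^ f)) n) : False := by
  have hn := R.hn
  have hfin := R.h.fin
  have hk'S := R.h.k'S hk'
  obtain ⟨w₀, hw₀, hwk₀⟩ := Nat.exists_prime_and_dvd R.h.lw.k_pos.2.ne'
  have hAB : 62499 ≤ A ∧ 62499 ≤ B := by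
    have h1 : 50 ^ 3 ≤ q ^ 3 := Nat.pow_le_pow_left hq 3
    norm_num at h1
    rcases R.h.lw.side.two_mul with h2 | h2 <;> omega
  obtain ⟨h7, h16⟩ := hF.big R.hU hn hAB.1 hAB.2
  obtain ⟨a, b, ha4, hb4, han, hbn, hab, hnab, hnba, hex, hpr⟩ := hF.pair h7 h16
  rw [R.natAbs] at hex h16 hpr
  -- the primes
  have hexi : ∀ c : ℕ, 4 ≤ c → c ≤ n → (v ^ f = 2 → c ≠ 6) → (¬ a ∣ c → False) ∨ (¬ b ∣ c → False) →
      ∃ r : ℕ, r.Prime ∧ cls t (v ^ f) r = c ∧ (r ∣ (q ^ 2 + 1) / 2 ∨ r = p) ∧ ¬ r ∣ m ∧ ¬ r ∣ i ∧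
        r ∣ Nat.card S := by
    intro c hc4 hcn hc6 hdiv
    obtain ⟨r, hr, hrc⟩ := exists_cls (t := t) (q := v ^ f) (i := c) R.u2 (by omega) (fun h2 => ⟨hc6 h2, by omega⟩)
    have h3 : 3 ≤ cls t (v ^ f) r := by omega
    obtain ⟨r5, rv, rv', r2⟩ := R.reg hr h3
    have hrS : r ∣ Nat.card S := (R.adjF.dvd r hr r2 rv' h3).2 ((R.mem_iff _).2 (by omega))
    have := Fact.mk hr
    have hWr : W r := by
      obtain ⟨g, hg⟩ := exists_prime_orderOf_dvd_card' r hrS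
      rw [← hg]
      exact R.h.WS g
    have hnAB : ¬ (r ∣ A ∨ r ∣ B) := by
      intro hd
      rcases hpr r hr hd with h4 | ⟨l, h4, h5, h6⟩
      · exact rv (((Nat.prime_dvd_prime_iff_eq hr R.hv).1 (hr.dvd_of_dvd_pow h4)))
      · rw [dvd_V_iff, hrc] at h4
        rcases hdiv with h8 | h8
        · apply h8
          intro h9
          exact h5 (h9.trans h4)
        · apply h8
          intro h9
          exact h6 (h9.trans h4)
    have hpz : r ∣ (q ^ 2 + 1) / 2 ∨ r = p := by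
      rcases R.wprimes hr r2 hWr with h4 | h4 | h4 | h4
      · exact Or.inr h4
      · exact absurd (Or.inl h4) hnAB
      · exact absurd (Or.inr h4) hnAB
      · exact Or.inl h4
    have hna : ∀ x : ℕ, x.Prime → (x ∣ k ∨ x ∣ k') → x ≠ r ∧ ¬ W (r * x) := by
      intro x hx hxk
      exact ⟨R.h.lw.ne_kz hx hxk hpz, fun hW => R.h.lw.naz hx hxk hr hpz hW (dvd_mul_left _ _) (dvd_mul_right _ _)⟩
    have hxS : ∀ x : ℕ, x.Prime → (x ∣ k ∨ x ∣ k') → x ∣ Nat.card S := by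
      intro x hx hxk
      rcases hxk with h | h
      · exact R.dvd_card (R.h.kS R.hg) h
      · exact R.dvd_card hk'S h
    refine ⟨r, hr, hrc, hpz, ?_⟩
    suffices hgood : ¬ r ∣ m * i from
      ⟨fun h => hgood (h.mul_right _), fun h => hgood (h.mul_left _), hrS⟩
    intro hrB
    have hw7 := (R.h.lw.side.prime R.h.lw.q2 hw₀ (Or.inr hwk₀)).1
    have hcase : ¬ (r ∣ m ∧ r ≠ v) := by
      rintro ⟨hrm, hrv⟩
      obtain ⟨h4, h5⟩ := hna w₀ hw₀ (Or.inr hwk₀)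
      have h6 := R.bad_aux hr hrm hrv (fun y hy hyk => ⟨(hna y hy (Or.inl hyk)).1, by
        rw [mul_comm]; exact (hna y hy (Or.inl hyk)).2⟩) hw₀ (by omega) h4 (hxS w₀ hw₀ (Or.inr hwk₀))
        (by rw [mul_comm]; exact h5) (fun hd => by
          have h8 := Nat.dvd_gcd hd (hwk₀.trans (R.h.lw.side.kB R.h.lw.q2))
          rw [R.h.lw.side.coprime] at h8
          exact hw₀.one_lt.ne' (Nat.dvd_one.1 h8))
      have h8 := hreg w₀ hw₀ hwk₀
      exact (R.reg hw₀ (by omega)).2.1 h6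
    rcases R.bad_top hr r5 hrB hcase with h4 | ⟨hrm, h4⟩
    · -- `r = v` or `r ∣ dg`: redo the cases
      by_cases hrm : r ∣ m
      · exact rv (by
          by_contra h
          exact hcase ⟨hrm, h⟩)
      · have hri : r ∣ i := (hr.dvd_mul.1 hrB).resolve_left hrm
        by_cases hrd : r ∣ dg t (v ^ f)
        · -- the class of `r` would be `1`
          have h5 : r ∣ V (sg t (v ^ f)) 1 := by
            have h6 : dg t (v ^ f) ∣ V (sg t (v ^ f)) 1 := by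
              have hu := R.u2
              rcases R.ht with rfl | rfl
              · have : sg (.psl n) (v ^ f) = ((v ^ f : ℕ) : ℤ) := rfl
                rw [this, V_pos_eq (by omega), VV]
                simp only [Bool.true_or, if_true, pow_one]
                exact Nat.gcd_dvd_right _ _
              · have : sg (.psu n) (v ^ f) = -((v ^ f : ℕ) : ℤ) := rfl
                rw [this, V_neg_eq (by omega), VV]
                simp only [Bool.false_or, pow_one]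
                rw [if_neg (by decide)]
                exact Nat.gcd_dvd_right _ _
            exact hrd.trans h6
          rw [dvd_V_iff, hrc] at h5
          have := Nat.le_of_dvd (by norm_num) h5
          omega
        · have h5 : ∀ x : ℕ, x.Prime → (x ∣ k ∨ x ∣ k') → x % r = 1 := by
            intro x hx hxk
            obtain ⟨h6, h8⟩ := hna x hx hxk
            have h9 := (R.h.lw.side.prime R.h.lw.q2 hx hxk).1
            exact (SX.fcase R.h R.cla R.hv R.hI hr r5 hri hrd hx (by omega) h6 (hxS x hx hxk) h8).2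
          rcases hpz with h6 | rfl
          · exact R.n2 hr h6 h5
          · exact R.n3 r5 h5
    · have h5 : ∀ x : ℕ, x.Prime → (x ∣ k ∨ x ∣ k') → x % r = 1 := by
        intro x hx hxk
        obtain ⟨h6, h8⟩ := hna x hx hxk
        have h9 := (R.h.lw.side.prime R.h.lw.q2 hx hxk).1
        exact h4 x hx (by omega) h6 (hxS x hx hxk) h8
      rcases hpz with h6 | rfl
      · exact R.n2 hr h6 h5
      · exact R.n3 r5 h5
  obtain ⟨r₁, hr₁, hc₁, hz₁, hm₁, hi₁, hS₁⟩ := hexi a ha4 han (fun h2 => (hex h2).1) (Or.inl fun h => h dvd_rfl)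
  obtain ⟨r₂, hr₂, hc₂, hz₂, hm₂, hi₂, hS₂⟩ := hexi b hb4 hbn (fun h2 => (hex h2).2) (Or.inr fun h => h dvd_rfl)
  have hne : r₁ ≠ r₂ := by
    rintro rfl
    rw [hc₁] at hc₂
    subst hc₂
    exact hnab dvd_rfl
  have hdv : ∀ r : ℕ, (r ∣ (q ^ 2 + 1) / 2 ∨ r = p) → r ∣ p * ((q ^ 2 + 1) / 2) := by
    rintro r (h | rfl)
    · exact h.mul_left _
    · exact dvd_mul_right _ _
  have hWW : W (r₁ * r₂) := R.h.lw.dvd _ _ R.h.lw.Wpz
    (((Nat.coprime_primes hr₁ hr₂).2 hne).mul_dvd_of_dvd_of_dvd (hdv _ hz₁) (hdv _ hz₂))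
  have hg : ∃ g : S, orderOf g = r₁ * r₂ := by
    refine R.h.mem _ hWW ?_
    refine Nat.Coprime.mul_left ?_ ?_
    · rw [Nat.Prime.coprime_iff_not_dvd hr₁]
      intro hd
      rcases hr₁.dvd_mul.1 hd with h | h
      · exact hm₁ h
      · exact hi₁ h
    · rw [Nat.Prime.coprime_iff_not_dvd hr₂]
      intro hd
      rcases hr₂.dvd_mul.1 hd with h | h
      · exact hm₂ h
      · exact hi₂ h
  obtain ⟨-, -, x1, x2⟩ := R.reg hr₁ (by omega)
  obtain ⟨-, -, y1, y2⟩ := R.reg hr₂ (by omega)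
  refine (R.adjF.adj r₁ r₂ hr₁ hr₂ x2 y2 hne x1 y1 (by omega) (by omega) ((R.mem_iff _).2 (by omega))
    ((R.mem_iff _).2 (by omega))).1 hg ?_
  rw [R.na_iff, hc₁, hc₂]
  exact ⟨hab, hnab, hnba⟩

/-! ### state I -/

theorem Row.stateI (R : Row p q k A k' B m i W S t v f n) (hk' : ∀ r : ℕ, r.Prime → r ∣ k' → ¬ r ∣ m ∧ ¬ r ∣ i) :
    False := by
  have hn := R.hn
  have hfin := R.h.fin
  have hk'S := R.h.k'S hk'
  obtain ⟨i0, T, hND, hk, hA, hi2, hin⟩ := R.nd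
  have hwA : ∀ w : ℕ, w.Prime → w ∣ k' → ¬ w ∣ A := fun w hw hd hdA => by
    have h8 := Nat.dvd_gcd hdA (hd.trans (R.h.lw.side.kB R.h.lw.q2))
    rw [R.h.lw.side.coprime] at h8
    exact hw.one_lt.ne' (Nat.dvd_one.1 h8)
  obtain ⟨w₀, hw₀, hwk₀⟩ := Nat.exists_prime_and_dvd R.h.lw.k_pos.2.ne'
  by_cases hbig : ∀ w : ℕ, w.Prime → w ∣ k' → n < 2 * cls t (v ^ f) w
  · -- one class
    set j := cls t (v ^ f) w₀ with hj
    have hall : ∀ x : ℕ, x.Prime → x ∣ k' → cls t (v ^ f) x = j := fun x hx hd =>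
      R.same hk'S hx hw₀ hd hwk₀ (hbig x hx hd) (hbig w₀ hw₀ hwk₀)
    have hj2 := hbig w₀ hw₀ hwk₀
    obtain ⟨hdvd, hreg⟩ := R.cls_dvd hk'S hall hj2
    have hjn : j ≤ n := R.cls_le hw₀ (by omega) (R.dvd_card hk'S hwk₀)
    have hji : j ≠ i0 := fun he => hwA w₀ hw₀ hwk₀ (hA w₀ hw₀ (by rw [← hj, he]))
    have hPB : ∀ N : ℕ, (∃ x : S, orderOf x = N) → w₀ ∣ N → N ∣ B := by
      rintro N ⟨x, rfl⟩ hd
      exact R.h.uk' hw₀ hwk₀ x hd
    have hP := R.prov
    have hlow : j + 2 ≤ n → V (sg t (v ^ f)) j ∣ B := fun h =>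
      hPB _ (hP.low j (by omega) h) (hwk₀.trans hdvd)
    have hw1 : Nat.Coprime w₀ (V (sg t (v ^ f)) 1) := (hreg 1 le_rfl (by omega)).coprime_dvd_left hwk₀
    have hgd : Nat.gcd n (V (sg t (v ^ f)) 1) ∣ V (sg t (v ^ f)) 1 := Nat.gcd_dvd_right _ _
    rcases Nat.lt_or_ge q 50 with hq | hq
    · obtain ⟨h1, h2⟩ := (hND.small hq).2.1 j (by omega) hjn hdvd
      exact h2 (hlow h1)
    · refine R.famkill hk' hbig hq (hND.fam hq (by omega) hjn hji hdvd hreg hlow ?_ ?_ ?_)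
      · intro h1 T' hT'
        refine hPB T' (hP.pred T' (by rw [hT', ← h1]; rfl)) ?_
        have h2 : w₀ ∣ T' * Nat.gcd n (V (sg t (v ^ f)) 1) := by rw [hT']; exact hwk₀.trans hdvd
        exact (hw1.coprime_dvd_right hgd).dvd_of_dvd_mul_right h2
      · intro h1 T' hT'
        refine hPB T' (hP.top T' hT') ?_
        have h2 : w₀ ∣ T' * (V (sg t (v ^ f)) 1 * Nat.gcd n (V (sg t (v ^ f)) 1)) := by
          rw [hT', ← h1]; exact hwk₀.trans hdvd
        exact (hw1.mul_right (hw1.coprime_dvd_right hgd)).dvd_of_dvd_mul_right h2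
      · intro _
        exact hP.dvd2
  · push Not at hbig
    obtain ⟨w, hw, hwk, hw2⟩ := hbig
    have hw7 := (R.h.lw.side.prime R.h.lw.q2 hw (Or.inr hwk)).1
    have hwS : w ∣ Nat.card S := R.dvd_card hk'S hwk
    have hwt : 2 * wS t (v ^ f) w ≤ n := by
      by_cases h3 : 3 ≤ cls t (v ^ f) w
      · rw [R.wS_reg' hw h3]
        exact hw2
      · have := wS_le_two R.cla (t := t) (q := v ^ f) (x := w) (by omega)
        omega
    by_cases hgood : ∀ r : ℕ, r.Prime → r ∣ (q ^ 2 + 1) / 2 → ¬ r ∣ m ∧ ¬ r ∣ i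
    · have hz : ∃ g : S, orderOf g = (q ^ 2 + 1) / 2 := by
        refine R.h.mem _ R.h.lw.Wz (Nat.Coprime.mul_right ?_ ?_)
        · exact Nat.coprime_of_dvd fun r hr hk hm => (hgood r hr hk).1 hm
        · exact Nat.coprime_of_dvd fun r hr hk hm => (hgood r hr hk).2 hm
      apply R.zkill hz
      intro x hx hxz
      have hne := R.h.lw.ne_kz hw (Or.inr hwk) (Or.inl hxz)
      have h1 := R.wS_lt hw hx hne (SX.notS R.h fun hW =>
        R.h.lw.naz hw (Or.inr hwk) hx (Or.inl hxz) hW (dvd_mul_right _ _) (dvd_mul_left _ _))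
      by_cases h3 : 3 ≤ cls t (v ^ f) x
      · rw [R.wS_reg' hx h3] at h1
        omega
      · have := wS_le_two R.cla (t := t) (q := v ^ f) (x := x) (by omega)
        omega
    · push Not at hgood
      obtain ⟨r, hr, hrz, hrb⟩ := hgood
      have hrB : r ∣ m * i := by
        by_cases hrm : r ∣ m
        · exact hrm.mul_right _
        · exact (hrb hrm).mul_left _
      have hr5 := (R.h.lw.side.z_prime R.h.lw.q2 hr hrz).1
      have hna : ∀ x : ℕ, x.Prime → (x ∣ k ∨ x ∣ k') → x ≠ r ∧ ¬ W (r * x) := by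
        intro x hx hxk
        exact ⟨R.h.lw.ne_kz hx hxk (Or.inl hrz), fun hW =>
          R.h.lw.naz hx hxk hr (Or.inl hrz) hW (dvd_mul_left _ _) (dvd_mul_right _ _)⟩
      have hxS : ∀ x : ℕ, x.Prime → (x ∣ k ∨ x ∣ k') → x ∣ Nat.card S := by
        intro x hx hxk
        rcases hxk with h | h
        · exact R.dvd_card (R.h.kS R.hg) h
        · exact R.dvd_card hk'S h
      by_cases hcase : r ∣ m ∧ r ≠ v
      · -- `k'` is a power of `v`
        have hv' : ∀ x : ℕ, x.Prime → x ∣ k' → x = v := by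
          intro x hx hxk
          have h7 := (R.h.lw.side.prime R.h.lw.q2 hx (Or.inr hxk)).1
          obtain ⟨h4, h5⟩ := hna x hx (Or.inr hxk)
          exact R.bad_aux hr hcase.1 hcase.2 (fun y hy hyk => ⟨(hna y hy (Or.inl hyk)).1, by
            rw [mul_comm]; exact (hna y hy (Or.inl hyk)).2⟩) hx (by omega) h4 (hxS x hx (Or.inr hxk))
            (by rw [mul_comm]; exact h5) (hwA x hx hxk)
        have hk0 : k' ≠ 0 := by have := R.h.lw.k_pos; omega
        have hpow : k' = v ^ k'.primeFactorsList.length :=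
          Nat.eq_prime_pow_of_unique_prime_dvd hk0 fun {d} hd hdk => hv' d hd hdk
        have hlen : k'.primeFactorsList.length ≠ 0 := by
          intro h0
          rw [h0, pow_zero] at hpow
          have := R.h.lw.k_pos
          omega
        obtain ⟨κ, hκ⟩ : ∃ κ, k'.primeFactorsList.length = κ + 1 := ⟨k'.primeFactorsList.length - 1, by omega⟩
        rw [hκ] at hpow
        rcases Nat.lt_or_ge q 50 with hq | hq
        · have h1 := (hND.small hq).2.2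
          rw [R.natAbs] at h1
          have h2 : v ∣ 1 := by
            rw [← h1]
            exact Nat.dvd_gcd (hv' w₀ hw₀ hwk₀ ▸ hwk₀) (dvd_pow_self v R.f_ne)
          exact R.hv.one_lt.ne' (Nat.dvd_one.1 h2)
        · obtain ⟨x, hx⟩ := hk'S
          rw [hpow] at hx
          exact hND.unip hq (v := v) (by rw [R.natAbs]; exact dvd_pow_self v R.f_ne) hpow (R.prov.unip κ x hx)
      · rcases R.bad_top hr hr5 hrB hcase with h4 | ⟨hrm, h4⟩
        · obtain ⟨h5, h6⟩ := hna w hw (Or.inr hwk)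
          have := h4 w hw (by omega) h5 hwS h6
          omega
        · apply R.n2 hr hrz
          intro x hx hxk
          obtain ⟨h6, h8⟩ := hna x hx hxk
          have h9 := (R.h.lw.side.prime R.h.lw.q2 hx hxk).1
          exact h4 x hx (by omega) h6 (hxS x hx hxk) h8

/-- **The rows `L_n`, `U_n`, `n ≥ 4`.** -/
theorem Row.absurd (R : Row p q k A k' B m i W S t v f n) : False := by
  rcases R.h.dich with h | ⟨⟨w, hw, hwk, hwB⟩, hgood⟩
  · exact R.stateI h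
  · exact R.stateII hw hwk hwB hgood

theorem row_psl (h : SX p q k A k' B m i W S) (hg : Good W m i) (hv : v.Prime) (hvp : v ≠ p)
    (hI : Fam.Is v f S (.psl n)) (hn : 4 ≤ n) : False :=
  Row.absurd ⟨h, hg, hv, hvp, hI, hn, Or.inl rfl⟩

theorem row_psu (h : SX p q k A k' B m i W S) (hg : Good W m i) (hv : v.Prime) (hvp : v ≠ p)
    (hI : Fam.Is v f S (.psu n)) (hn : 4 ≤ n) : False :=
  Row.absurd ⟨h, hg, hv, hvp, hI, hn, Or.inr rfl⟩

end Cfsg.Agent.R2.Spec.X4.H4
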