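import Cfsg.Agent.R2.Spec.X4.Base
import Cfsg.Agent.R2.Spec.F1.Bad

/-!
# X4: the bad primes for the classical sections (helper4), after `R2/Spec/F1/Bad.lean`

`SX.bad` : `r ≥ 5` divides `m i`, `x ≥ 5` divides `|S|` and `¬ W (r * x)`; then

* (A) `r ∣ m`, `r ≠ v` : `x = v` or `x` is anisotropic;
* (B) `r ∣ m`, `r = v` : `x` is not adjacent to `v` in `S`;
* (C) `r ∤ m`, `r ∣ dg` : `x` is in one of the two top classes;
* (D) `r ∤ m`, `r ∤ dg` : `x ≡ 1 mod r`.

(A), (B), (C) hold also for `x = 3` (`SX.kcase`, `vcase`, `dcase`).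
-/

set_option autoImplicit false
set_option linter.unusedSectionVars false
set_option linter.unusedVariables false

namespace Cfsg.Agent.R2.Spec.X4.H4

open Subgroup Cfsg
open Cfsg.Agent.H426.LieFam Cfsg.Agent.R2.Spec Cfsg.Agent.R2.Spec.P1 Cfsg.Agent.R2.Spec.F1
open Cfsg.Agent.H72

universe u

variable {p q k A k' B m i : ℕ} {W : ℕ → Prop} {S : Type u} [Group S] {t : Fam} {v f : ℕ}

theorem is_f_ne (ht : Classical t) (h1 : Fam.Is v f S t) : f ≠ 0 := by
  have key : ∀ {F : Type} [Field F] [Fintype F], Fintype.card F = v ^ f → f ≠ 0 := fun hF => one_le_f_of hF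
  cases t with
  | psl n => obtain ⟨hn, h4, F, _, _, hch, hF, e⟩ := h1; exact key hF
  | psu n =>
    obtain ⟨hn, h4, F, _, _, hch, hF, e⟩ := h1
    rintro rfl
    have := Fintype.one_lt_card (α := F)
    rw [hF, pow_zero, one_pow] at this
    omega
  | psp n => obtain ⟨hn, h4, F, _, _, hch, hF, e⟩ := h1; exact key hF
  | oodd n => obtain ⟨hn, h4, F, _, _, hch, hF, e⟩ := h1; exact key hF
  | oplus n => obtain ⟨hn, F, _, _, hch, hF, e⟩ := h1; exact key hF
  | ominus n => obtain ⟨hn, F, _, _, hch, a, b, hF, e⟩ := h1; exact key hF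
  | g2 => exact ht.elim
  | f4 => exact ht.elim
  | e6 => exact ht.elim
  | e7 => exact ht.elim
  | e8 => exact ht.elim
  | td4 => exact ht.elim
  | te6 => exact ht.elim
  | sz => exact ht.elim
  | tf4 => exact ht.elim
  | ree => exact ht.elim

/-- the characteristic -/
theorem vcase (ht : Classical t) (hv : v.Prime) (hI : Fam.Is v f S t) [Finite S] {x : ℕ} (hx : x.Prime) (hx2 : x ≠ 2)
    (hxv : x ≠ v) (hxS : x ∣ Nat.card S) (hna : ¬ ∃ g : S, orderOf g = v * x) :
    (3 ≤ cls t (v ^ f) x ∧ nap t (cls t (v ^ f) x)) ∨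
      (cls t (v ^ f) x ≤ 2 ∧ rk t ≤ 3 ∧ ∃ n, t = .psl n ∨ t = .psu n) := by
  by_contra hcon
  push Not at hcon
  obtain ⟨hnp, hirr⟩ := hcon
  have hxv' : ¬ x ∣ v := fun hd => hxv ((Nat.prime_dvd_prime_iff_eq hx hv).1 hd)
  have hxq : ¬ x ∣ v ^ f := fun hd => hxv' (hx.dvd_of_dvd_pow hd)
  have hF := adjFacts ht hv hI
  apply hna
  by_cases h3 : 3 ≤ cls t (v ^ f) x
  · have h1 := (hF.adjp x hx hx2 hxv' h3 ((hF.dvd x hx hx2 hxv' h3).1 hxS)).2 (hnp h3)
    rwa [mul_comm] at h1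
  · have h2 : cls t (v ^ f) x ≤ 2 := by omega
    have h4 := hirr h2
    have hv2 := wS_char (t := t) hv (is_f_ne ht hI)
    by_cases hL : ∃ n, t = .psl n ∨ t = .psu n
    · have h5 : ¬ rk t ≤ 3 := by
        intro h5
        obtain ⟨n, hn⟩ := hL
        exact absurd hn (not_or.2 (h4 h5 n))
      refine adj_wS ht hI hv hx (Ne.symm hxv) ?_
      have h6 := wS_le_two ht h2
      have h7 : cS t = 0 := by
        obtain ⟨n, rfl | rfl⟩ := hL <;> rfl
      omega
    · push Not at hL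
      have h6 := wS_le_one ht (fun n => (hL n).1) (fun n => (hL n).2) hx2 hxq h2
      have key : wS t (v ^ f) v + wS t (v ^ f) x + cS t ≤ rk t → ∃ g : S, orderOf g = v * x :=
        adj_wS ht hI hv hx (Ne.symm hxv)
      cases t with
      | psl n => exact absurd rfl (hL n).1
      | psu n => exact absurd rfl (hL n).2
      | psp n =>
        rcases Nat.lt_or_ge 2 n with hn | hn
        · apply key
          change _ + 0 ≤ n
          omega
        · obtain ⟨hn2, h8, F, _, _, hch, hF', ⟨e⟩⟩ := hI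
          have hn' : n = 2 := by omega
          subst hn'
          have := Fact.mk hv
          refine exists_congr_order e ?_
          have hco : cls (.psp 2) (v ^ f) x = co (v ^ f) x := cls_eq_co (by intro k; exact fun h => by cases h) _ _
          rw [hco] at h2
          have h9 := S2472.result (F := F) v 2 le_rfl (fun _ => by rw [hF']; exact h8 rfl) x hx hx2 hxv
            (by rw [← Nat.card_congr e.toEquiv]; exact hxS) (orderOf ((Fintype.card F : ℕ) : ZMod x))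
            (eta (orderOf ((Fintype.card F : ℕ) : ZMod x))) rfl (by
              rcases eta_cases (orderOf ((Fintype.card F : ℕ) : ZMod x)) with h | h
              · exact Or.inl h
              · exact Or.inr h)
          by_contra hno
          have h10 : x * v ∉ Set.range (orderOf : Cfsg.PSp 2 F → ℕ) := by
            rintro ⟨g, hg⟩
            exact hno ⟨g, by rw [hg, mul_comm]⟩
          have h11 := h9.1 h10
          rw [hF'] at h11
          have h12 : eta (orderOf ((v ^ f : ℕ) : ZMod x)) ≤ 1 := by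
            change orderOf ((v ^ f : ℕ) : ZMod x) ≤ 2 at h2
            rcases eta_cases (orderOf ((v ^ f : ℕ) : ZMod x)) with ⟨h3, h4⟩ | h3
            · rw [Nat.odd_iff] at h3
              omega
            · omega
          omega
      | oodd n =>
        obtain ⟨hn, -⟩ := hI
        apply key
        change _ + 0 ≤ n
        omega
      | oplus n =>
        obtain ⟨hn, -⟩ := hI
        apply key
        change _ + 1 ≤ n
        omega
      | ominus n =>
        obtain ⟨hn, -⟩ := hI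
        apply key
        change _ + 1 ≤ n
        omega
      | g2 => exact ht.elim
      | f4 => exact ht.elim
      | e6 => exact ht.elim
      | e7 => exact ht.elim
      | e8 => exact ht.elim
      | td4 => exact ht.elim
      | te6 => exact ht.elim
      | sz => exact ht.elim
      | tf4 => exact ht.elim
      | ree => exact ht.elim

/-- the diagonal primes -/
theorem dcase (ht : Classical t) (hv : v.Prime) (hI : Fam.Is v f S t) {r x : ℕ} (hr : r.Prime) (hr5 : 5 ≤ r)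
    (hrd : r ∣ dg t (v ^ f)) (hx : x.Prime) (hxr : x ≠ r) (hna : ¬ ∃ g : S, orderOf g = r * x) :
    3 ≤ cls t (v ^ f) x ∧ rk t < cls t (v ^ f) x + 2 ∧ ∃ n, t = .psl n ∨ t = .psu n := by
  have hq : 1 ≤ v ^ f := Nat.one_le_pow _ _ hv.pos
  obtain ⟨n, hn⟩ : ∃ n, t = .psl n ∨ t = .psu n := by
    have hr1 := hr.one_lt
    have key : dg t (v ^ f) = 1 → False := by
      intro h1
      rw [h1] at hrd
      exact hr1.ne' (Nat.dvd_one.1 hrd)
    cases t with
    | psl n => exact ⟨n, Or.inl rfl⟩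
    | psu n => exact ⟨n, Or.inr rfl⟩
    | _ => exact (key rfl).elim
  have hrn : r ≤ n ∧ cls t (v ^ f) r ≤ 1 ∧ cS t = 0 ∧ rk t = n := by
    rcases hn with rfl | rfl
    · have hn2 : 2 ≤ n := hI.1
      refine ⟨Nat.le_of_dvd (by omega) (hrd.trans (Nat.gcd_dvd_left _ _)), ?_, rfl, rfl⟩
      have h1 : r ∣ v ^ f - 1 := hrd.trans (Nat.gcd_dvd_right _ _)
      rw [cls_psl]
      exact le_of_eq ((AdjPSL.ee_eq_one_iff hq).2 h1)
    · have hn2 : 3 ≤ n := hI.1
      refine ⟨Nat.le_of_dvd (by omega) (hrd.trans (Nat.gcd_dvd_left _ _)), ?_, rfl, rfl⟩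
      have h1 : r ∣ v ^ f + 1 := hrd.trans (Nat.gcd_dvd_right _ _)
      rw [cls_psu]
      exact le_of_eq (AdjPSU.nu_eq_one h1)
  obtain ⟨h1, h2, h3, h4⟩ := hrn
  have h5 := wS_le_two ht (h2.trans (by norm_num))
  have key : wS t (v ^ f) r + wS t (v ^ f) x + cS t ≤ rk t → ∃ g : S, orderOf g = r * x :=
    adj_wS ht hI hr hx hxr.symm
  by_contra hcon
  apply hna
  by_cases h6 : 3 ≤ cls t (v ^ f) x
  · have h7 := wS_reg ht hq hx h6
    have h8 : wt t (cls t (v ^ f) x) = cls t (v ^ f) x := by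
      rcases hn with rfl | rfl <;> rfl
    apply key
    rw [h7, h8, h3, h4]
    have h9 : ¬ rk t < cls t (v ^ f) x + 2 := fun h9 => hcon ⟨h6, h9, n, hn⟩
    omega
  · have h7 := wS_le_two ht (t := t) (q := v ^ f) (x := x) (by omega)
    apply key
    omega

theorem SX.noncomm (h : SX p q k A k' B m i W S) : ∃ a b : S, a * b ≠ b * a := by
  by_contra hcon
  push Not at hcon
  exact h.nonab ⟨⟨hcon⟩⟩

theorem SX.center (h : SX p q k A k' B m i W S) : Subgroup.center S = ⊥ := by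
  have := h.simple
  rcases (inferInstance : (Subgroup.center S).Normal).eq_bot_or_eq_top with h1 | h1
  · exact h1
  · exfalso
    obtain ⟨a, b, hab⟩ := SX.noncomm h
    have h2 : a ∈ Subgroup.center S := by rw [h1]; exact mem_top a
    exact hab (Subgroup.mem_center_iff.1 h2 b).symm

theorem SX.notS (h : SX p q k A k' B m i W S) {n : ℕ} (hn : ¬ W n) : ¬ ∃ g : S, orderOf g = n := by
  rintro ⟨g, hg⟩
  exact hn (hg ▸ h.WS g)

/-- the radical -/
theorem SX.kcase (h : SX p q k A k' B m i W S) (ht : Classical t) (hv : v.Prime) (hI : Fam.Is v f S t) {r x : ℕ}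
    (hr : r.Prime) (hrK : r ∣ m) (hrv : r ≠ v) (hx : x.Prime)
    (hx2 : x ≠ 2) (hxr : x ≠ r) (hxS : x ∣ Nat.card S) (hna : ¬ W (x * r)) :
    x = v ∨ (3 ≤ cls t (v ^ f) x ∧ An t (cls t (v ^ f) x)) ∨ (t = .psl 2 ∧ x ∣ v ^ f + 1) ∨
      (t = .psu 3 ∧ x ∣ v ^ f + 1) := by
  by_contra hcon
  push Not at hcon
  obtain ⟨hxv, hAn, h1, h2⟩ := hcon
  have := h.simple
  have := h.fin
  have hxv' : ¬ x ∣ v := fun hd => hxv ((Nat.prime_dvd_prime_iff_eq hx hv).1 hd)
  apply hna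
  refine h.kadj r v x hr hv hx hrK hx2 (Ne.symm hxv) (Ne.symm hrv) hxr ?_
  by_cases h3 : 3 ≤ cls t (v ^ f) x
  · exact movW_cls ht (SX.noncomm h) hv hI hx hx2 hxv' h3
      (((adjFacts ht hv hI).dvd x hx hx2 hxv' h3).1 hxS) (hAn h3)
  · have hirr : x ∣ (v ^ f) ^ 2 - 1 := dvd_sq_of_cls (Nat.one_le_pow _ _ hv.pos) hx
      (fun hd => hxv' (hx.dvd_of_dvd_pow hd)) (t := t) (by omega)
    exact (movA_irr ht hv hI hx hx2 hxv hirr h1 h2).movW

/-- the field automorphisms -/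
theorem SX.fcase (h : SX p q k A k' B m i W S) (ht : Classical t) (hv : v.Prime) (hI : Fam.Is v f S t) {r x : ℕ}
    (hr : r.Prime) (hr5 : 5 ≤ r) (hri : r ∣ i) (hrd : ¬ r ∣ dg t (v ^ f)) (hx : x.Prime) (hx5 : 5 ≤ x) (hxr : x ≠ r)
    (hxS : x ∣ Nat.card S) (hna : ¬ W (r * x)) : x ≠ v ∧ x % r = 1 := by
  have hfd := fldDat_cls ht (SX.center h) hv hI hr hr5 hrd
  have key : (x = v ∨ 5 ≤ x ∧ x % r ≠ 1) → False := fun hc => hna (h.fld r v x hr hri hfd hx hxr.symm hc hxS)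
  refine ⟨fun hxv => key (Or.inl hxv), ?_⟩
  by_contra hmod
  exact key (Or.inr ⟨hx5, hmod⟩)

/-- **The bad primes.** -/
theorem SX.bad (h : SX p q k A k' B m i W S) (ht : Classical t) (hv : v.Prime) (hI : Fam.Is v f S t) {r x : ℕ}
    (hr : r.Prime) (hr5 : 5 ≤ r) (hrB : r ∣ m * i) (hx : x.Prime) (hx5 : 5 ≤ x) (hxr : x ≠ r)
    (hxS : x ∣ Nat.card S) (hna : ¬ W (r * x)) :
    (r ∣ m ∧ r ≠ v ∧ (x = v ∨ (3 ≤ cls t (v ^ f) x ∧ An t (cls t (v ^ f) x)) ∨
        (t = .psl 2 ∧ x ∣ v ^ f + 1) ∨ (t = .psu 3 ∧ x ∣ v ^ f + 1))) ∨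
    (r ∣ m ∧ r = v ∧ ((3 ≤ cls t (v ^ f) x ∧ nap t (cls t (v ^ f) x)) ∨
        (cls t (v ^ f) x ≤ 2 ∧ rk t ≤ 3 ∧ ∃ n, t = .psl n ∨ t = .psu n))) ∨
    (¬ r ∣ m ∧ r ∣ dg t (v ^ f) ∧ 3 ≤ cls t (v ^ f) x ∧ rk t < cls t (v ^ f) x + 2 ∧
        ∃ n, t = .psl n ∨ t = .psu n) ∨
    (¬ r ∣ m ∧ ¬ r ∣ dg t (v ^ f) ∧ x ≠ v ∧ x % r = 1) := by
  have hx2 : x ≠ 2 := by omega
  have := h.fin
  by_cases hrK : r ∣ m
  · by_cases hrv : r = v
    · right; left
      refine ⟨hrK, hrv, vcase ht hv hI hx hx2 (by rw [← hrv]; exact hxr) hxS ?_⟩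
      rw [← hrv]
      exact SX.notS h hna
    · left
      exact ⟨hrK, hrv, SX.kcase h ht hv hI hr hrK hrv hx hx2 hxr hxS (by rwa [mul_comm] at hna)⟩
  · have hri : r ∣ i := (hr.dvd_mul.1 hrB).resolve_left hrK
    by_cases hrd : r ∣ dg t (v ^ f)
    · right; right; left
      obtain ⟨h1, h2, h3⟩ := dcase ht hv hI hr hr5 hrd hx hxr (SX.notS h hna)
      exact ⟨hrK, hrd, h1, h2, h3⟩
    · right; right; right
      obtain ⟨h1, h2⟩ := SX.fcase h ht hv hI hr hr5 hri hrd hx hx5 hxr hxS hna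
      exact ⟨hrK, hrd, h1, h2⟩

end Cfsg.Agent.R2.Spec.X4.H4
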