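import Cfsg.Agent.R2.Spec.X4.H4.Num

/-!
# X4, the rows `L_n`, `U_n` (`n ≥ 4`): `q < 50`, by a finite check (helper4)
-/

set_option autoImplicit false

namespace Cfsg.Agent.R2.Spec.X4.H4

open Cfsg.Agent.R2.Spec.X4 Cfsg.Agent.H376.Six

/-- `V U i` for `U = u` or `U = -u` -/
def VV (e : Bool) (u i : ℕ) : ℕ := if e || i % 2 == 0 then u ^ i - 1 else u ^ i + 1

theorem V_pos_eq {u i : ℕ} (hu : 1 ≤ u) : V (u : ℤ) i = VV true u i := by
  rw [V, VV]
  simp only [Bool.true_or, if_true]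
  have h1 : ((u : ℤ) ^ i - 1) = ((u ^ i - 1 : ℕ) : ℤ) := by
    rw [Nat.cast_sub (Nat.one_le_pow _ _ hu)]
    push_cast
    ring
  rw [h1, Int.natAbs_natCast]

theorem V_neg_eq {u i : ℕ} (hu : 1 ≤ u) : V (-(u : ℤ)) i = VV false u i := by
  rw [V, VV]
  simp only [Bool.false_or, beq_iff_eq]
  split_ifs with h
  · have he : Even i := Nat.even_iff.2 h
    rw [he.neg_pow]
    have h1 : ((u : ℤ) ^ i - 1) = ((u ^ i - 1 : ℕ) : ℤ) := by
      rw [Nat.cast_sub (Nat.one_le_pow _ _ hu)]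
      push_cast
      ring
    rw [h1, Int.natAbs_natCast]
  · have ho : Odd i := Nat.odd_iff.2 (by omega)
    rw [ho.neg_pow]
    have h1 : (-(u : ℤ) ^ i - 1) = -((u ^ i + 1 : ℕ) : ℤ) := by
      push_cast
      ring
    rw [h1, Int.natAbs_neg, Int.natAbs_natCast]

/-- the check for one torus -/
def okT (e : Bool) (q A B k k' u n T : ℕ) : Bool :=
  !(A % T == 0) || !(T % k == 0) || !(Nat.gcd u q == 1) ||
    ((List.range (n + 1)).all fun s => s < 3 || (!(VV e u s % ((q ^ 2 + 1) / 2) == 0) &&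
      (!(VV e u s % k' == 0) || (s + 2 ≤ n && !(B % VV e u s == 0)))) && Nat.gcd k' u == 1)

/-- the check for one group -/
def okG (e : Bool) (q A B k k' u n : ℕ) : Bool :=
  okT e q A B k k' u n (VV e u n / (VV e u 1 * Nat.gcd n (VV e u 1))) &&
    okT e q A B k k' u n (VV e u (n - 1) / Nat.gcd n (VV e u 1))

/-- the numbers `(q, A, B, k, k')` -/
def tab : List (ℕ × ℕ × ℕ × ℕ × ℕ) :=
  (List.range 50).filterMap fun q =>
    if q < 7 || q % 2 == 0 then none
    else if q % 4 == 3 then some (q, (q ^ 3 - 1) / 2, (q ^ 3 + 1) / 2, ap q, am q)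
    else some (q, (q ^ 3 + 1) / 2, (q ^ 3 - 1) / 2, am q, ap q)

def chk : Bool :=
  (List.range 20).all fun n => (List.range 421).all fun u =>
    n < 4 || u < 2 || 176475 < u ^ (n - 2) ||
      tab.all fun x => okG true x.1 x.2.1 x.2.2.1 x.2.2.2.1 x.2.2.2.2 u n &&
        okG false x.1 x.2.1 x.2.2.1 x.2.2.2.1 x.2.2.2.2 u n

theorem chk_true : chk = true := by decide +kernel

variable {q k A k' B : ℕ} {U : ℤ} {n i0 T : ℕ}

theorem mem_tab (h : Side q k A k' B) (hq : 7 ≤ q) (hq' : q < 50) : (q, A, B, k, k') ∈ tab := by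
  have ho := h.odd_q
  rw [tab, List.mem_filterMap]
  refine ⟨q, List.mem_range.2 hq', ?_⟩
  rw [if_neg (by simp; omega)]
  rcases h with ⟨h1, rfl, rfl, rfl, rfl⟩ | ⟨h1, rfl, rfl, rfl, rfl⟩
  · rw [if_pos (by simp; omega)]
  · rw [if_neg (by simp; omega)]

/-- **`q < 50`** -/
theorem ND.small (h : ND q k A k' B U n i0 T) (hq : q < 50) :
    (∀ s : ℕ, 3 ≤ s → s ≤ n → ¬ (q ^ 2 + 1) / 2 ∣ V U s) ∧
    (∀ s : ℕ, 3 ≤ s → s ≤ n → k' ∣ V U s → s + 2 ≤ n ∧ ¬ V U s ∣ B) ∧ Nat.Coprime k' U.natAbs := by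
  have hu := two_le_natAbs h.hU
  have hb := h.u_le'
  have h4 := h.n4
  have hq3 : q ^ 3 ≤ 49 ^ 3 := Nat.pow_le_pow_left (by omega) 3
  have hle : U.natAbs ^ (n - 2) ≤ 176475 := by
    have := h.u_le
    have := h.T_le
    have := h.A_le
    omega
  have hn : n < 20 := by
    by_contra hcon
    have h1 : 2 ^ 18 ≤ 2 ^ (n - 2) := Nat.pow_le_pow_right (by norm_num) (by omega)
    have h2 : 2 ^ (n - 2) ≤ U.natAbs ^ (n - 2) := Nat.pow_le_pow_left hu _
    norm_num at h1
    omega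
  have hu' : U.natAbs < 421 := by
    by_contra hcon
    have h1 : U.natAbs ^ 2 ≤ U.natAbs ^ (n - 2) := Nat.pow_le_pow_right (by omega) (by omega)
    have h2 : 421 ^ 2 ≤ U.natAbs ^ 2 := Nat.pow_le_pow_left (by omega) 2
    norm_num at h2
    omega
  have hc := chk_true
  rw [chk, List.all_eq_true] at hc
  have hc1 := hc n (List.mem_range.2 hn)
  rw [List.all_eq_true] at hc1
  have hc2 := hc1 _ (List.mem_range.2 hu')
  simp only [Bool.or_eq_true, decide_eq_true_eq] at hc2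
  rcases hc2 with ((hc2 | hc2) | hc2) | hc2
  · omega
  · omega
  · omega
  rw [List.all_eq_true] at hc2
  have hc3 := hc2 _ (mem_tab h.side h.q7 hq)
  simp only [Bool.and_eq_true] at hc3
  obtain ⟨hct, hcf⟩ := hc3
  -- the sign
  obtain ⟨e, heV, hok⟩ : ∃ e : Bool, (∀ i, V U i = VV e U.natAbs i) ∧ okG e q A B k k' U.natAbs n = true := by
    rcases Int.natAbs_eq U with h1 | h1
    · refine ⟨true, fun i => ?_, hct⟩
      conv_lhs => rw [h1]
      exact V_pos_eq (by omega)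
    · refine ⟨false, fun i => ?_, hcf⟩
      conv_lhs => rw [h1]
      exact V_neg_eq (by omega)
  rw [okG, Bool.and_eq_true] at hok
  have hδ := h.δ_pos
  have hdn := h.dn_pos
  have hT : okT e q A B k k' U.natAbs n T = true := by
    rcases h.tor with ⟨h1, h2⟩ | ⟨h1, h2⟩
    · have h3 : VV e U.natAbs n / (VV e U.natAbs 1 * Nat.gcd n (VV e U.natAbs 1)) = T := by
        rw [← heV, ← heV, ← h2]
        exact Nat.mul_div_cancel _ (Nat.mul_pos hδ hdn)
      have := hok.1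
      rwa [h3] at this
    · have h3 : VV e U.natAbs (n - 1) / Nat.gcd n (VV e U.natAbs 1) = T := by
        rw [← heV, ← heV, show n - 1 = i0 by omega, ← h2]
        exact Nat.mul_div_cancel _ hdn
      have := hok.2
      rwa [h3] at this
  rw [okT] at hT
  have hTA := Nat.mod_eq_zero_of_dvd h.TA
  have hkT := Nat.mod_eq_zero_of_dvd h.kT
  have hcop : Nat.gcd U.natAbs q = 1 := by
    have h1 := h.cop
    rw [Int.isCoprime_iff_gcd_eq_one] at h1
    exact h1
  simp only [hTA, hkT, hcop, beq_self_eq_true, Bool.not_true, Bool.false_or, List.all_eq_true, Bool.or_eq_true,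
    Bool.and_eq_true, Bool.not_eq_true', beq_eq_false_iff_ne, beq_iff_eq, decide_eq_true_eq, List.mem_range] at hT
  refine ⟨?_, ?_, ?_⟩
  · intro s hs3 hsn hd
    rcases hT s (by omega) with h1 | ⟨⟨h1, -⟩, -⟩
    · omega
    · apply h1
      rw [← heV]
      exact Nat.mod_eq_zero_of_dvd hd
  · intro s hs3 hsn hd
    rcases hT s (by omega) with h1 | ⟨⟨-, h1⟩, -⟩
    · omega
    · rcases h1 with h1 | ⟨h1, h2⟩
      · exfalso
        apply h1
        rw [← heV]
        exact Nat.mod_eq_zero_of_dvd hd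
      · refine ⟨h1, fun h3 => h2 ?_⟩
        rw [← heV]
        exact Nat.mod_eq_zero_of_dvd h3
  · rcases hT 3 (by omega) with h1 | ⟨-, h1⟩
    · omega
    · exact h1

end Cfsg.Agent.R2.Spec.X4.H4
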