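import Cfsg.Agent.R2.Spec.X4.H4.ZLem

/-!
# X4, the rows `L_n`, `U_n` (`n ≥ 4`): `k'` in one class (helper4), `q ≥ 50`
-/

set_option autoImplicit false

namespace Cfsg.Agent.R2.Spec.X4.H4

open Cfsg.Agent.R2.Spec.X4

variable {q k A k' B : ℕ} {U : ℤ} {n i0 T : ℕ}

/-- the surviving families -/
def Fam3 (A B : ℕ) (U : ℤ) (n : ℕ) : Prop :=
  (V U 1 ∣ n ∧ (A : ℤ) = |S U n| ∧ (B : ℤ) = |U| * |S U (n - 1)|) ∨
  (V U 1 ∣ n ∧ (B : ℤ) = |S U n| ∧ (A : ℤ) = |U| * |S U (n - 1)|) ∨
  (U = 2 ∧ (A : ℤ) = |S U (n - 1)| ∧ (B : ℤ) = |U| * |S U (n - 2)|)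

theorem coprime_V (U : ℤ) {i j : ℕ} (hj : 1 ≤ j) : Nat.Coprime (V U j) (U.natAbs ^ i) := by
  apply Nat.Coprime.pow_right
  have h1 : IsCoprime (U ^ j - 1) U := by
    obtain ⟨c, rfl⟩ : ∃ c, j = c + 1 := ⟨j - 1, by omega⟩
    exact ⟨-1, U ^ c, by ring⟩
  rw [Int.isCoprime_iff_gcd_eq_one] at h1
  exact h1

theorem V_eq_nat (U : ℤ) (j : ℕ) : V U j = (S U j).natAbs * V U 1 := by
  have h1 := V_eq U j
  rw [← V_one] at h1
  have h2 : ((V U j : ℕ) : ℤ) = (((S U j).natAbs * V U 1 : ℕ) : ℤ) := by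
    rw [h1]; push_cast; rfl
  exact_mod_cast h2

theorem eq_two_of_V {m : ℕ} (hU : 2 ≤ |U|) (hm : 1 ≤ m) (h : V U m = 1) : U = 2 ∧ m = 1 := by
  have h1 : |U ^ m - 1| = 1 := by rw [← V_cast, h]; rfl
  have h2 := V_one_le U
  have h3 : |U| ^ m ≤ 2 := by
    have := le_V U m
    omega
  have h4 : m = 1 := by
    by_contra hne
    have h5 : |U| ^ 2 ≤ |U| ^ m := pow_le_pow_right₀ (by omega) (by omega)
    nlinarith
  subst h4
  rw [pow_one] at h1 h3
  refine ⟨?_, rfl⟩
  rcases abs_cases U with ⟨h5, h6⟩ | ⟨h5, h6⟩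
  · omega
  · have : |U - 1| = 3 := by
      have : U = -2 := by omega
      rw [this]; norm_num
    omega

/-- **The `k'`-lemma**, `q ≥ 50`. -/
theorem ND.fam (h : ND q k A k' B U n i0 T) (hq : 50 ≤ q) {j : ℕ} (hj3 : 3 ≤ j)
    (hjn : j ≤ n) (hji : j ≠ i0) (hd : k' ∣ V U j) (hreg : ∀ l : ℕ, 1 ≤ l → l < j → Nat.Coprime k' (V U l))
    (hlow : j + 2 ≤ n → V U j ∣ B)
    (hpred : j + 1 = n → ∀ T' : ℕ, T' * Nat.gcd n (V U 1) = V U j → T' ∣ B)
    (htop : j = n → ∀ T' : ℕ, T' * (V U 1 * Nat.gcd n (V U 1)) = V U n → T' ∣ B)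
    (hSn : j = n → V U 1 * Nat.gcd n (V U 1) ∣ V U n) :
    Fam3 A B U n := by
  have h4 := h.n4
  have hk1 := hreg 1 le_rfl (by omega)
  obtain ⟨d, hd1, hA, hB⟩ := h.sgn
  obtain ⟨a, ha⟩ := h.TA
  have ha0 : 0 < a := by
    rcases Nat.eq_zero_or_pos a with rfl | h1
    · have := h.A_pos; omega
    · exact h1
  have hδ := sub_one_pos h.hU
  have hδ0 := h.δ_pos
  have hdn0 := h.dn_pos
  have hdnd : Nat.gcd n (V U 1) ∣ V U 1 := Nat.gcd_dvd_right _ _
  have hdnn : Nat.gcd n (V U 1) ∣ n := Nat.gcd_dvd_left _ _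
  have hdn : (Nat.gcd n (V U 1) : ℤ) ≤ |U - 1| := by
    rw [← V_one]
    exact_mod_cast h.dn_le
  have hkS := dvd_S hk1 hd
  obtain ⟨-, hk'⟩ := h.side.k_ge (by omega : 2 ≤ q)
  have hq2le : q ≤ q ^ 2 := Nat.le_self_pow two_ne_zero q
  have hk'i : (q : ℤ) ^ 2 - q + 1 ≤ 3 * (k' : ℤ) := by
    zify [hq2le] at hk'
    linarith
  have hkB := h.side.kB (by omega : 2 ≤ q)
  have hE := h.eqn hA ha
  have hB0 : 0 < B := by
    have h1 : q ^ 3 ≥ 50 ^ 3 := Nat.pow_le_pow_left hq 3
    rcases h.side.two_mul with h2 | h2 <;> omega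
  by_cases hlt : j < i0
  · obtain ⟨m, hm⟩ : ∃ m, i0 = m + j := ⟨i0 - j, by omega⟩
    have hCE : ∃ C : ℕ, 0 < C ∧ 2 * (C : ℤ) * |S U i0| = (Nat.gcd n (V U 1) : ℤ) * ((q : ℤ) ^ 3 + d) ∧
        ((i0 = n ∧ C = a) ∨ (i0 + 1 = n ∧ C = a * V U 1)) := by
      rcases hE with ⟨h1, h2⟩ | ⟨h1, h2⟩
      · exact ⟨a, ha0, by rw [h1]; exact h2, Or.inl ⟨h1, rfl⟩⟩
      · refine ⟨a * V U 1, Nat.mul_pos ha0 hδ0, ?_, Or.inr ⟨h1, rfl⟩⟩
        push_cast
        rw [V_one]
        exact h2
    obtain ⟨C, hC, hE', hor⟩ := hCE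
    rw [hm] at hE'
    obtain ⟨g1, g2, g3⟩ := bgen (m := m) (s := j) hd1 (by exact_mod_cast hq) hA hB hk'i (by exact_mod_cast hkB) h.hU
      (by omega) (by omega) (by omega) (by exact_mod_cast hC) (by exact_mod_cast hdn0) hdn
      (by exact_mod_cast h.d_le hq) hE' hkS
    -- natural numbers
    have g1' : C * (S U m).natAbs = Nat.gcd n (V U 1) := by
      rw [← Int.natCast_natAbs] at g1
      exact_mod_cast g1
    have g3' : U.natAbs ^ m * (S U j).natAbs = (S U m).natAbs * B := by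
      rw [← Int.natCast_natAbs, ← Int.natCast_natAbs, ← Int.natCast_natAbs] at g3
      exact_mod_cast g3
    have hSm : 0 < (S U m).natAbs := Int.natAbs_pos.2 (S_ne_zero h.hU (by omega))
    have hSj : 0 < (S U j).natAbs := Int.natAbs_pos.2 (S_ne_zero h.hU (by omega))
    rcases hor with ⟨hi, rfl⟩ | ⟨hi, rfl⟩
    · -- `i0 = n`
      rcases Nat.lt_or_ge m 2 with hm2 | hm2
      · obtain rfl : m = 1 := by omega
        left
        have hjn1 : j + 1 = n := by omega
        have hSone : S U 1 = 1 := S_one U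
        rw [hSone] at g1 g2 g3 g1' g3' hSm
        rw [Int.natAbs_one] at g1' g3' hSm
        rw [mul_one] at g1'
        rw [one_mul, pow_one] at g3'
        -- `δ ∣ dn`
        obtain ⟨δ', hδ'⟩ := hdnd
        have hT' : (δ' * (S U j).natAbs) * Nat.gcd n (V U 1) = V U j := by
          rw [V_eq_nat U j]
          conv_rhs => rw [hδ']
          ring
        have h5 := hpred hjn1 _ hT'
        rw [← g3'] at h5
        have h6 : δ' ∣ U.natAbs := Nat.dvd_of_mul_dvd_mul_right hSj h5
        have h7 : δ' ∣ V U 1 := by rw [hδ']; exact Dvd.intro_left _ rfl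
        have h8 : δ' = 1 := by
          have h9 : Nat.Coprime (V U 1) (U.natAbs ^ 1) := coprime_V U le_rfl
          rw [pow_one] at h9
          exact Nat.eq_one_of_dvd_coprimes h9 h7 h6
        rw [h8, mul_one] at hδ'
        refine ⟨by rw [hδ']; exact hdnn, ?_, ?_⟩
        · rw [← hi, hm, g2]
          simp
        · have hj' : n - 1 = j := by omega
          rw [hj', pow_one] at *
          simp at g3
          exact g3.symm
      · exfalso
        have h5 := hlow (by omega)
        obtain ⟨b, hb⟩ := h5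
        rw [V_eq_nat] at hb
        have h6 : U.natAbs ^ m = V U m * b := by
          apply Nat.eq_of_mul_eq_mul_right hSj
          rw [g3', hb, V_eq_nat U m]
          ring
        have h7 : V U m = 1 := by
          have h8 : V U m ∣ U.natAbs ^ m := Dvd.intro _ h6.symm
          exact Nat.eq_one_of_dvd_coprimes (coprime_V U (by omega)) dvd_rfl h8
        have := (eq_two_of_V h.hU (by omega) h7).2
        omega
    · -- `i0 = n - 1`
      have h5 := h.dn_le
      have h6 : a * (S U m).natAbs = 1 := by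
        have e1 : a * (S U m).natAbs * V U 1 ≤ 1 * V U 1 := by
          calc a * (S U m).natAbs * V U 1 = a * V U 1 * (S U m).natAbs := by ring
            _ = Nat.gcd n (V U 1) := g1'
            _ ≤ 1 * V U 1 := by omega
        have e2 := Nat.le_of_mul_le_mul_right e1 hδ0
        have e3 : 0 < a * (S U m).natAbs := Nat.mul_pos ha0 hSm
        omega
      have ha1 : a = 1 := Nat.eq_one_of_mul_eq_one_right h6
      have hSm1 : (S U m).natAbs = 1 := Nat.eq_one_of_mul_eq_one_left h6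
      rw [hSm1, one_mul] at g3'
      obtain ⟨b, hb⟩ := hlow (by omega)
      rw [V_eq_nat] at hb
      have h7 : U.natAbs ^ m = V U 1 * b := by
        apply Nat.eq_of_mul_eq_mul_right hSj
        rw [g3', hb]
        ring
      have h8 : V U 1 = 1 := Nat.eq_one_of_dvd_coprimes (coprime_V U le_rfl (i := m)) dvd_rfl (Dvd.intro _ h7.symm)
      obtain ⟨hU2, -⟩ := eq_two_of_V h.hU le_rfl h8
      have h9 : V U m = 1 := by rw [V_eq_nat, hSm1, h8]
      obtain ⟨-, hm1⟩ := eq_two_of_V h.hU (by omega) h9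
      right; right
      refine ⟨hU2, ?_, ?_⟩
      · rw [show n - 1 = i0 by omega, hm, g2]
        rw [show |S U m| = 1 by rw [← Int.natCast_natAbs, hSm1]; rfl, one_mul]
      · rw [show n - 2 = j by omega]
        rw [show |S U m| = 1 by rw [← Int.natCast_natAbs, hSm1]; rfl, one_mul, hm1, pow_one] at g3
        exact g3.symm
  · -- `j = n`, `i0 = n - 1`
    have hi : i0 + 1 = n := by
      rcases h.tor with ⟨h1, -⟩ | ⟨h1, -⟩ <;> omega
    obtain rfl : j = n := by omega
    have hev := h.odd_n hq hi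
    obtain ⟨m, hm⟩ : ∃ m, j = m + m := ⟨j / 2, by omega⟩
    have hle := (le_of_even (h := m) h.hU (hreg m (by omega) (by omega)) (hm ▸ hd)).2
    obtain ⟨T', hT'⟩ := hSn rfl
    rw [mul_comm] at hT'
    obtain ⟨b, hb⟩ := htop rfl T' hT'.symm
    rcases hE with ⟨h1, -⟩ | ⟨-, hE⟩
    · omega
    set D : ℤ := (Nat.gcd j (V U 1) : ℤ) with hD
    have hDpos : 0 < D := by rw [hD]; exact_mod_cast hdn0
    have hTS : (T' : ℤ) * D = |S U j| := by
      have e1 : (V U j : ℤ) = (T' : ℤ) * ((V U 1 : ℤ) * D) := by rw [hT']; push_cast; rfl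
      rw [V_eq, V_one] at e1
      apply mul_right_cancel₀ (b := |U - 1|) (by omega)
      linarith
    have hE' : 2 * (b : ℤ) * |S U j| = D * ((q : ℤ) ^ 3 - d) := by
      rw [← hTS, ← hB]
      push_cast [hb]
      ring
    obtain ⟨σ, hσ, hσS⟩ := exists_sign (S U i0)
    obtain ⟨τ, hτ, hτS⟩ := exists_sign (S U j)
    have hσ2 : σ * σ = 1 := by rcases hσ with rfl | rfl <;> norm_num
    have hτ2 : τ * τ = 1 := by rcases hτ with rfl | rfl <;> norm_num
    have hSj : S U j = U * S U i0 + 1 := by rw [← hi, S_succ]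
    have hmain : S U i0 * (b * τ * U - a * |U - 1| * σ) = -(D * d) - b * τ := by
      rw [← hσS] at hE
      rw [← hτS, hSj] at hE'
      apply mul_left_cancel₀ (two_ne_zero (α := ℤ))
      linear_combination hE' - hE
    have hb0 : 0 < b := by
      rcases Nat.eq_zero_or_pos b with rfl | h1
      · omega
      · exact h1
    have hb0i : (0 : ℤ) < b := by exact_mod_cast hb0
    have ha0i : (0 : ℤ) < a := by exact_mod_cast ha0
    have hq' : (50 : ℤ) ≤ q := by exact_mod_cast hq
    have hd6 : 6 * D ≤ q := by rw [hD]; exact_mod_cast h.d_le hq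
    have hu := two_le_natAbs h.hU
    by_cases hz0 : b * τ * U - a * |U - 1| * σ = 0
    · -- equality
      rw [hz0, mul_zero] at hmain
      right; left
      have h1 : (b : ℤ) = D := by
        have e1 : D * d = -(b * τ) := by linarith
        have e2 : |D * d| = |b * τ| := by rw [e1, abs_neg]
        rw [abs_mul, abs_mul, abs_of_pos hDpos, abs_of_pos hb0i] at e2
        rcases hd1 with rfl | rfl <;> rcases hτ with rfl | rfl <;> simpa using e2.symm
      have h2 : D * |U| = a * |U - 1| := by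
        have e1 : b * τ * U = a * |U - 1| * σ := by linarith
        have e2 : |b * τ * U| = |a * |U - 1| * σ| := by rw [e1]
        rw [abs_mul, abs_mul, abs_mul, abs_mul, abs_abs, abs_of_pos hb0i, abs_of_pos ha0i, h1] at e2
        rcases hσ with rfl | rfl <;> rcases hτ with rfl | rfl <;> simpa using e2
      have h3 : Nat.gcd j (V U 1) * U.natAbs = a * V U 1 := by
        rw [← V_one, ← natAbs_cast, hD] at h2
        exact_mod_cast h2
      have h5 : V U 1 ∣ Nat.gcd j (V U 1) := by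
        have e1 : V U 1 ∣ Nat.gcd j (V U 1) * U.natAbs := by rw [h3]; exact Dvd.intro_left _ rfl
        have e2 : Nat.Coprime (V U 1) (U.natAbs ^ 1) := coprime_V U le_rfl
        rw [pow_one] at e2
        exact e2.dvd_of_dvd_mul_right e1
      have h6 : Nat.gcd j (V U 1) = V U 1 := Nat.dvd_antisymm hdnd h5
      refine ⟨by rw [← h6]; exact hdnn, ?_, ?_⟩
      · have e1 : D * (2 * (B : ℤ)) = D * (2 * |S U j|) := by
          rw [h1] at hE'
          rw [hB]
          linarith
        have e2 := mul_left_cancel₀ hDpos.ne' e1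
        linarith
      · have e0 : D = |U - 1| := by rw [hD, h6, V_one]
        have e1 : D * (2 * (A : ℤ)) = D * (2 * (|U| * |S U i0|)) := by
          rw [hA, ← hE, ← h2]
          ring
        have e2 := mul_left_cancel₀ hDpos.ne' e1
        rw [show j - 1 = i0 by omega]
        linarith
    · exfalso
      -- `|S_{n-1}| ≤ dn + b`
      have h1 : |S U i0| ≤ D + b := by
        have e1 : |S U i0| * |b * τ * U - a * |U - 1| * σ| = |-(D * d) - b * τ| := by
          rw [← abs_mul, hmain]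
        have e2 : 1 ≤ |b * τ * U - a * |U - 1| * σ| := Int.one_le_abs hz0
        have e3 : |-(D * d) - b * τ| ≤ D + b := by
          rcases hd1 with rfl | rfl <;> rcases hτ with rfl | rfl <;> rw [abs_le] <;> constructor <;> linarith
        have e4 : |S U i0| * 1 ≤ |S U i0| * |b * τ * U - a * |U - 1| * σ| :=
          mul_le_mul_of_nonneg_left e2 (abs_nonneg _)
        linarith
      -- `2 b ≤ 3 (q + 1)`
      have hkT : k' ≤ T' := by
        have e1 : k' ∣ T' := by
          have e2 : k' ∣ T' * (V U 1 * Nat.gcd j (V U 1)) := by rw [← hT']; exact hd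
          refine Nat.Coprime.dvd_of_dvd_mul_right ?_ e2
          exact hk1.mul_right (hk1.coprime_dvd_right hdnd)
        refine Nat.le_of_dvd ?_ e1
        rcases Nat.eq_zero_or_pos T' with h0 | h0
        · rw [h0, zero_mul] at hb; omega
        · exact h0
      have h2 : 2 * (b : ℤ) ≤ 3 * (q + 1) := by
        by_contra hcon
        rw [not_le] at hcon
        have e1 : (2 : ℤ) * b * T' ≤ (q : ℤ) ^ 3 + 1 := by
          have e2 : 2 * (B : ℤ) ≤ (q : ℤ) ^ 3 + 1 := by rcases hd1 with rfl | rfl <;> linarith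
          rw [hb] at e2
          push_cast at e2
          linarith
        have e3 : (2 : ℤ) * b * k' ≤ 2 * b * T' := by
          apply mul_le_mul_of_nonneg_left _ (by linarith)
          exact_mod_cast hkT
        have e4 : 2 * (b : ℤ) * ((q : ℤ) ^ 2 - q + 1) ≤ 2 * b * (3 * k') :=
          mul_le_mul_of_nonneg_left hk'i (by linarith)
        have e5 : (3 * (q + 1) + 1) * ((q : ℤ) ^ 2 - q + 1) ≤ 2 * b * ((q : ℤ) ^ 2 - q + 1) := by
          apply mul_le_mul_of_nonneg_right (by linarith)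
          nlinarith
        nlinarith
      -- `u (k' - 1) - 1 ≤ (u + 1) |S_{n-1}|`
      have hu' : (2 : ℤ) ≤ (U.natAbs : ℤ) := by exact_mod_cast hu
      have hV : (U.natAbs : ℤ) ^ i0 ≤ |S U i0| * ((U.natAbs : ℤ) + 1) + 1 := by
        have e1 := le_V U i0
        rw [← abs_S_mul, ← natAbs_cast] at e1
        have e2 : |S U i0| * |U - 1| ≤ |S U i0| * ((U.natAbs : ℤ) + 1) := by
          apply mul_le_mul_of_nonneg_left _ (abs_nonneg _)
          rw [natAbs_cast]
          exact sub_one_le U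
        linarith
      have hle' : (k' : ℤ) ≤ (U.natAbs : ℤ) ^ m + 1 := by exact_mod_cast hle
      set u : ℤ := (U.natAbs : ℤ) with hudef
      have h5 : u * (k' - 1) ≤ u ^ i0 := by
        have e1 : u ^ i0 = u ^ (m - 1) * u ^ m := by
          rw [← pow_add]
          congr 1
          omega
        have e2 : u ^ 1 ≤ u ^ (m - 1) := pow_le_pow_right₀ (by omega) (by omega)
        rw [pow_one] at e2
        have e4 : u * (k' - 1) ≤ u * u ^ m := mul_le_mul_of_nonneg_left (by linarith) (by positivity)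
        have e5 : u * u ^ m ≤ u ^ (m - 1) * u ^ m := mul_le_mul_of_nonneg_right e2 (by positivity)
        linarith
      have h6 : 6 * |S U i0| ≤ 10 * q + 9 := by linarith
      have h7 : 12 * (u * (k' - 1)) ≤ 12 + (10 * q + 9) * (3 * u) := by
        have e1 : (6 * |S U i0|) * (2 * (u + 1)) ≤ (10 * q + 9) * (2 * (u + 1)) :=
          mul_le_mul_of_nonneg_right h6 (by linarith)
        have e2 : (10 * (q : ℤ) + 9) * (2 * (u + 1)) ≤ (10 * q + 9) * (3 * u) :=
          mul_le_mul_of_nonneg_left (by linarith) (by linarith)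
        linarith
      have h8 : u * (12 * (k' - 1) - 6 - (30 * q + 27)) ≤ 0 := by linarith
      have h9 : 12 * ((k' : ℤ) - 1) - 6 - (30 * q + 27) ≤ 0 := by
        by_contra hcon
        rw [not_le] at hcon
        have := mul_pos (by linarith : (0 : ℤ) < u) hcon
        linarith
      nlinarith

end Cfsg.Agent.R2.Spec.X4.H4
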