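import Cfsg.Agent.R2.Spec.X4.H4.BLem

/-!
# X4, the rows `L_n`, `U_n` (`n ≥ 4`): two size estimates (helper4)
-/

set_option autoImplicit false

namespace Cfsg.Agent.R2.Spec.X4.H4

open Cfsg.Agent.R2.Spec.X4

variable {q k A k' B : ℕ} {U : ℤ} {n i0 T : ℕ}

theorem cube_le (m : ℕ) : (m + 4) ^ 3 ≤ 64 * 2 ^ m := by
  induction m with
  | zero => norm_num
  | succ m ih =>
    rw [show 2 ^ (m + 1) = 2 ^ m * 2 from pow_succ 2 m]
    have h1 : (m + 1 + 4) ^ 3 ≤ 2 * (m + 4) ^ 3 := by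
      have h2 : 0 ≤ m ^ 3 := Nat.zero_le _
      have h3 : 0 ≤ m ^ 2 := Nat.zero_le _
      nlinarith
    omega

/-- `k'` is not a power of the characteristic -/
theorem ND.unip (h : ND q k A k' B U n i0 T) (hq : 50 ≤ q) {v κ : ℕ} (hv : v ∣ U.natAbs) (hk : k' = v ^ (κ + 1))
    (hlt : v ^ κ < n) : False := by
  have hu := two_le_natAbs h.hU
  have h4 := h.n4
  have hA := h.A_le
  have hTA := h.T_le
  have hδ := V_one_le U
  have hdn := h.dn_le_n
  have hvu : v ≤ U.natAbs := Nat.le_of_dvd (by omega) hv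
  obtain ⟨-, hY⟩ := h.side.k_ge (by omega : 2 ≤ q)
  have hk1 : k' ≤ (n - 1) * U.natAbs := by
    rw [hk, pow_succ]
    exact Nat.mul_le_mul (by omega) hvu
  have hk3 : k' ^ 3 ≤ 108 * (q ^ 3 + 1) := by
    have e1 : k' ^ 3 ≤ ((n - 1) * U.natAbs) ^ 3 := Nat.pow_le_pow_left hk1 3
    rcases Nat.lt_or_ge 4 n with h5 | h5
    · obtain ⟨m, hm⟩ : ∃ m, n = m + 5 := ⟨n - 5, by omega⟩
      have e2 := cube_le m
      have e3 : 2 ^ m ≤ U.natAbs ^ m := Nat.pow_le_pow_left hu m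
      have e4 := h.u_le'
      rw [show n - 2 = m + 3 by omega] at e4
      rw [show n - 1 = m + 4 by omega, mul_pow] at e1
      have e5 : (m + 4) ^ 3 * U.natAbs ^ 3 ≤ (64 * U.natAbs ^ m) * U.natAbs ^ 3 :=
        Nat.mul_le_mul_right _ (by omega)
      have e6 : (64 * U.natAbs ^ m) * U.natAbs ^ 3 = 64 * U.natAbs ^ (m + 3) := by rw [pow_add]; ring
      omega
    · obtain rfl : n = 4 := by omega
      have e2 : U.natAbs ^ 3 ≤ 3 * q ^ 3 + 4 := by
        rcases h.tor with ⟨h6, hT⟩ | ⟨h6, hT⟩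
        · have f1 := le_V_nat U 4
          rw [← hT] at f1
          have f2 : V U 1 * Nat.gcd 4 (V U 1) ≤ (U.natAbs + 1) * 4 := Nat.mul_le_mul hδ hdn
          have f3 : T * (V U 1 * Nat.gcd 4 (V U 1)) ≤ A * ((U.natAbs + 1) * 4) := Nat.mul_le_mul hTA f2
          have f4 : (2 * A) * (2 * (U.natAbs + 1)) ≤ (q ^ 3 + 1) * (3 * U.natAbs) :=
            Nat.mul_le_mul hA (by omega)
          have f5 : U.natAbs ^ 4 ≤ (q ^ 3 + 1) * (3 * U.natAbs) + 1 := by
            calc U.natAbs ^ 4 ≤ A * ((U.natAbs + 1) * 4) + 1 := by omega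
              _ = (2 * A) * (2 * (U.natAbs + 1)) + 1 := by ring
              _ ≤ _ := by omega
          by_contra hcon
          rw [not_le] at hcon
          have f6 : (3 * q ^ 3 + 4 + 1) * U.natAbs ≤ U.natAbs ^ 3 * U.natAbs := Nat.mul_le_mul_right _ hcon
          have f7 : U.natAbs ^ 3 * U.natAbs = U.natAbs ^ 4 := by ring
          nlinarith
        · have f1 := le_V_nat U i0
          rw [← hT, show i0 = 3 by omega] at f1
          have f3 : T * Nat.gcd 4 (V U 1) ≤ A * 4 := Nat.mul_le_mul hTA hdn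
          omega
      have e3 : ((4 - 1) * U.natAbs) ^ 3 = 27 * U.natAbs ^ 3 := by norm_num; ring
      omega
  -- `Y = q² - q + 1`, `Y³ ≤ 27 k'³ ≤ 2916 (q + 1) Y`
  have hq2 : q ≤ q ^ 2 := Nat.le_self_pow two_ne_zero q
  obtain ⟨Y, hYd⟩ : ∃ Y, Y = q ^ 2 - q + 1 := ⟨_, rfl⟩
  rw [← hYd] at hY
  have e1 : Y ^ 3 ≤ (3 * k') ^ 3 := Nat.pow_le_pow_left hY 3
  have e2 : q ^ 3 + 1 = (q + 1) * Y := by
    rw [hYd]
    zify [hq2]
    ring
  have e3 : Y ^ 3 ≤ (2916 * (q + 1)) * Y := by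
    calc Y ^ 3 ≤ (3 * k') ^ 3 := e1
      _ = 27 * k' ^ 3 := by ring
      _ ≤ 27 * (108 * (q ^ 3 + 1)) := Nat.mul_le_mul_left _ hk3
      _ = (2916 * (q + 1)) * Y := by rw [e2]; ring
  have hY0 : 49 * q ≤ Y := by
    have : q * 50 ≤ q ^ 2 := by rw [sq]; exact Nat.mul_le_mul_left q hq
    omega
  have e4 : Y ^ 2 ≤ 2916 * (q + 1) := by
    apply Nat.le_of_mul_le_mul_right (c := Y) _ (by omega)
    calc Y ^ 2 * Y = Y ^ 3 := by ring
      _ ≤ _ := e3
  have e5 : (49 * q) ^ 2 ≤ Y ^ 2 := Nat.pow_le_pow_left hY0 2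
  have e6 : 50 * q ≤ q ^ 2 := by rw [sq]; exact Nat.mul_le_mul_right q hq
  nlinarith

/-- the rank is large in the surviving families -/
theorem Fam3.big (h : Fam3 A B U n) (hU : 2 ≤ |U|) (h4 : 4 ≤ n) (hA : 62499 ≤ A) (hB : 62499 ≤ B) :
    7 ≤ n ∧ (U.natAbs = 2 → 16 ≤ n) := by
  have hu := two_le_natAbs hU
  have key : V U 1 ∣ n → (62499 : ℤ) ≤ |S U n| → 7 ≤ n ∧ (U.natAbs = 2 → 16 ≤ n) := by
    intro hd hS
    have h1 := V_eq_nat U n
    have h2 : 62499 ≤ (S U n).natAbs := by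
      rw [← Int.natCast_natAbs] at hS
      exact_mod_cast hS
    have h3 := V_le_nat U n
    have h5 : 0 < V U 1 := by
      have := sub_one_pos hU
      rw [← V_one] at this
      omega
    have h6 := le_V_one U
    have h7 : 62499 * V U 1 ≤ V U n := by rw [h1]; exact Nat.mul_le_mul_right _ h2
    refine ⟨?_, ?_⟩
    · by_contra hcon
      rw [not_le] at hcon
      have h8 : V U 1 ≤ n := Nat.le_of_dvd (by omega) hd
      have h9 : U.natAbs ^ n ≤ U.natAbs ^ 6 := Nat.pow_le_pow_right (by omega) (by omega)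
      rcases Nat.lt_or_ge U.natAbs 7 with h10 | h10
      · have h11 : U.natAbs ^ 6 ≤ 6 ^ 6 := Nat.pow_le_pow_left (by omega) 6
        norm_num at h11
        omega
      · have h11 : U.natAbs ^ 6 ≤ 7 ^ 6 := Nat.pow_le_pow_left (by omega) 6
        norm_num at h11
        omega
    · intro h8
      by_contra hcon
      rw [h8] at h3
      have h9 : 2 ^ n ≤ 2 ^ 15 := Nat.pow_le_pow_right (by norm_num) (by omega)
      norm_num at h9
      omega
  rcases h with ⟨h1, h2, -⟩ | ⟨h1, h2, -⟩ | ⟨h1, h2, -⟩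
  · exact key h1 (by rw [← h2]; exact_mod_cast hA)
  · exact key h1 (by rw [← h2]; exact_mod_cast hB)
  · have h3 := V_eq_nat U (n - 1)
    have h5 : 62499 ≤ (S U (n - 1)).natAbs := by
      have h6 : (62499 : ℤ) ≤ |S U (n - 1)| := by rw [← h2]; exact_mod_cast hA
      rw [← Int.natCast_natAbs] at h6
      exact_mod_cast h6
    have h6 := V_le_nat U (n - 1)
    have h7 : V U 1 = 1 := by rw [h1]; rfl
    rw [h7, mul_one] at h3
    have h8 : U.natAbs = 2 := by rw [h1]; rfl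
    rw [h8] at h6
    have h9 : 16 ≤ n := by
      by_contra hcon
      have h10 : 2 ^ (n - 1) ≤ 2 ^ 14 := Nat.pow_le_pow_right (by norm_num) (by omega)
      norm_num at h10
      omega
    exact ⟨by omega, fun _ => h9⟩

/-- in the surviving families there are two nonadjacent classes whose primes do not divide `A B` -/
theorem Fam3.pair (h : Fam3 A B U n) (h7 : 7 ≤ n) (h16 : U.natAbs = 2 → 16 ≤ n) :
    ∃ a b : ℕ, 4 ≤ a ∧ 4 ≤ b ∧ a ≤ n ∧ b ≤ n ∧ n < a + b ∧ ¬ a ∣ b ∧ ¬ b ∣ a ∧ (U.natAbs = 2 → a ≠ 6 ∧ b ≠ 6) ∧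
      ∀ r : ℕ, r.Prime → (r ∣ A ∨ r ∣ B) → r ∣ U.natAbs ∨ ∃ l : ℕ, r ∣ V U l ∧ ¬ a ∣ l ∧ ¬ b ∣ l := by
  have key : ∀ (X : ℕ) (l : ℕ), (X : ℤ) = |S U l| → ∀ r : ℕ, r ∣ X → r ∣ V U l := by
    intro X l hX r hrX
    have h1 : X = (S U l).natAbs := by
      rw [← Int.natCast_natAbs] at hX
      exact_mod_cast hX
    rw [V_eq_nat, ← h1]
    exact hrX.mul_right _
  have key2 : ∀ (X : ℕ) (l : ℕ), (X : ℤ) = |U| * |S U l| → ∀ r : ℕ, r.Prime → r ∣ X → r ∣ U.natAbs ∨ r ∣ V U l := by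
    intro X l hX r hr hrX
    have h1 : X = U.natAbs * (S U l).natAbs := by
      rw [← Int.natCast_natAbs, ← Int.natCast_natAbs] at hX
      exact_mod_cast hX
    rw [h1] at hrX
    rcases hr.dvd_mul.1 hrX with h2 | h2
    · exact Or.inl h2
    · right
      rw [V_eq_nat]
      exact h2.mul_right _
  have nd : ∀ a c : ℕ, 0 < c → c < a → ¬ a ∣ a + c := by
    intro a c h0 hlt hd
    have h1 := (Nat.dvd_add_right (dvd_refl a)).1 hd
    have := Nat.le_of_dvd h0 h1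
    omega
  have nd' : ∀ a b : ℕ, b < a → 0 < b → ¬ a ∣ b := fun a b h0 hb hd => by
    have := Nat.le_of_dvd hb hd
    omega
  have two : ∀ (X Y : ℕ), (X : ℤ) = |S U n| → (Y : ℤ) = |U| * |S U (n - 1)| →
      (∀ r : ℕ, r.Prime → (r ∣ A ∨ r ∣ B) → r ∣ X ∨ r ∣ Y) →
      ∃ a b : ℕ, 4 ≤ a ∧ 4 ≤ b ∧ a ≤ n ∧ b ≤ n ∧ n < a + b ∧ ¬ a ∣ b ∧ ¬ b ∣ a ∧ (U.natAbs = 2 → a ≠ 6 ∧ b ≠ 6) ∧
      ∀ r : ℕ, r.Prime → (r ∣ A ∨ r ∣ B) → r ∣ U.natAbs ∨ ∃ l : ℕ, r ∣ V U l ∧ ¬ a ∣ l ∧ ¬ b ∣ l := by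
    intro X Y hX hY hXY
    refine ⟨n - 2, n - 3, by omega, by omega, by omega, by omega, by omega, ?_, ?_, fun h2 => ?_, ?_⟩
    · exact nd' _ _ (by omega) (by omega)
    · have := nd (n - 3) 1 (by omega) (by omega)
      rwa [show n - 3 + 1 = n - 2 by omega] at this
    · have := h16 h2
      omega
    · have a1 := nd (n - 2) 2 (by omega) (by omega)
      have a2 := nd (n - 2) 1 (by omega) (by omega)
      have a3 := nd (n - 3) 3 (by omega) (by omega)
      have a4 := nd (n - 3) 2 (by omega) (by omega)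
      rw [show n - 2 + 2 = n by omega] at a1
      rw [show n - 2 + 1 = n - 1 by omega] at a2
      rw [show n - 3 + 3 = n by omega] at a3
      rw [show n - 3 + 2 = n - 1 by omega] at a4
      intro r hr hd
      rcases hXY r hr hd with h1 | h1
      · exact Or.inr ⟨n, key _ _ hX r h1, a1, a3⟩
      · rcases key2 _ _ hY r hr h1 with h2 | h2
        · exact Or.inl h2
        · exact Or.inr ⟨n - 1, h2, a2, a4⟩
  rcases h with ⟨-, h1, h2⟩ | ⟨-, h1, h2⟩ | ⟨h0, h1, h2⟩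
  · exact two A B h1 h2 fun r _ hd => hd
  · exact two B A h1 h2 fun r _ hd => hd.symm
  · have h16' : 16 ≤ n := h16 (by rw [h0]; rfl)
    refine ⟨n - 3, n - 4, by omega, by omega, by omega, by omega, by omega, ?_, ?_, fun _ => by omega, ?_⟩
    · exact nd' _ _ (by omega) (by omega)
    · have := nd (n - 4) 1 (by omega) (by omega)
      rwa [show n - 4 + 1 = n - 3 by omega] at this
    · have a1 := nd (n - 3) 2 (by omega) (by omega)
      have a2 := nd (n - 3) 1 (by omega) (by omega)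
      have a3 := nd (n - 4) 3 (by omega) (by omega)
      have a4 := nd (n - 4) 2 (by omega) (by omega)
      rw [show n - 3 + 2 = n - 1 by omega] at a1
      rw [show n - 3 + 1 = n - 2 by omega] at a2
      rw [show n - 4 + 3 = n - 1 by omega] at a3
      rw [show n - 4 + 2 = n - 2 by omega] at a4
      intro r hr hd
      rcases hd with hd | hd
      · exact Or.inr ⟨n - 1, key _ _ h1 r hd, a1, a3⟩
      · rcases key2 _ _ h2 r hr hd with h3 | h3
        · exact Or.inl h3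
        · exact Or.inr ⟨n - 2, h3, a2, a4⟩

/-- the characteristic divides `A B` or is `2` -/
theorem Fam3.u_dvd (h : Fam3 A B U n) : U.natAbs ∣ A ∨ U.natAbs ∣ B ∨ U.natAbs = 2 := by
  have key : ∀ (X : ℕ) (l : ℕ), (X : ℤ) = |U| * |S U l| → U.natAbs ∣ X := by
    intro X l hX
    have h1 : X = U.natAbs * (S U l).natAbs := by
      rw [← Int.natCast_natAbs, ← Int.natCast_natAbs] at hX
      exact_mod_cast hX
    rw [h1]
    exact Dvd.intro _ rfl
  rcases h with ⟨-, h1, h2⟩ | ⟨-, h1, h2⟩ | ⟨h0, h1, h2⟩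
  · exact Or.inr (Or.inl (key _ _ h2))
  · exact Or.inl (key _ _ h2)
  · exact Or.inr (Or.inr (by rw [h0]; rfl))

end Cfsg.Agent.R2.Spec.X4.H4
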