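import Cfsg.Agent.R2.Spec.X4.H4.Prov
import Cfsg.Agent.R2.Spec.X4.H4.Size
import Cfsg.Agent.R2.Spec.F1.Exist

/-!
# X4, the rows `L_n`, `U_n` (`n ≥ 4`): the context (helper4)

* `Row` : the hypotheses;
* `Row.nd` : the class `i0` of the primes of `k`, the torus `T`, the numerical data `ND`;
* `Row.cls_dvd` : an order all of whose primes are in one class `s > n / 2` divides `V U s`.
-/

set_option autoImplicit false
set_option linter.unusedVariables false

namespace Cfsg.Agent.R2.Spec.X4.H4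

open Cfsg Cfsg.Agent.H426.LieFam Cfsg.Agent.R2.Spec Cfsg.Agent.R2.Spec.P1 Cfsg.Agent.R2.Spec.F1
open Cfsg.Agent.R2.Spec.X4
open Cfsg.Agent.H72

universe u

/-- the hypotheses -/
structure Row (p q k A k' B m i : ℕ) (W : ℕ → Prop) (S : Type u) [Group S] (t : Fam) (v f n : ℕ) : Prop where
  h : SX p q k A k' B m i W S
  hg : Good W m i
  hv : v.Prime
  hvp : v ≠ p
  hI : Fam.Is v f S t
  hn : 4 ≤ n
  ht : t = .psl n ∨ t = .psu n

variable {p q k A k' B m i : ℕ} {W : ℕ → Prop} {S : Type u} [Group S] {t : Fam} {v f n : ℕ}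

/-- the class of `n = 4`-type conditions -/
theorem Row.cla (R : Row p q k A k' B m i W S t v f n) : Classical t := by
  rcases R.ht with rfl | rfl <;> trivial

theorem Row.rk_eq (R : Row p q k A k' B m i W S t v f n) : rk t = n := by
  rcases R.ht with rfl | rfl <;> rfl

theorem Row.cS_eq (R : Row p q k A k' B m i W S t v f n) : cS t = 0 := by
  rcases R.ht with rfl | rfl <;> rfl

theorem Row.wt_eq (R : Row p q k A k' B m i W S t v f n) (j : ℕ) : wt t j = j := by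
  rcases R.ht with rfl | rfl <;> rfl

theorem Row.mem_iff (R : Row p q k A k' B m i W S t v f n) (j : ℕ) : mem t j ↔ j ≤ n := by
  rcases R.ht with rfl | rfl <;> exact Iff.rfl

theorem Row.na_iff (R : Row p q k A k' B m i W S t v f n) (a b : ℕ) : na t a b ↔ n < a + b ∧ ¬ a ∣ b ∧ ¬ b ∣ a := by
  rcases R.ht with rfl | rfl <;> exact Iff.rfl

theorem Row.nap_iff (R : Row p q k A k' B m i W S t v f n) (a : ℕ) : nap t a ↔ n < a + 2 := by
  rcases R.ht with rfl | rfl <;> exact Iff.rfl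

theorem Row.An_uniq (R : Row p q k A k' B m i W S t v f n) {a b : ℕ} (ha : An t a) (hb : An t b) : a = b := by
  rcases R.ht with rfl | rfl
  · have h1 : a = n := ha
    have h2 : b = n := hb
    omega
  · have h1 : a % 2 = 1 ∧ (a = n ∨ a + 1 = n) := ha
    have h2 : b % 2 = 1 ∧ (b = n ∨ b + 1 = n) := hb
    omega

theorem Row.ne_small (R : Row p q k A k' B m i W S t v f n) : t ≠ .psl 2 ∧ t ≠ .psu 3 := by
  have := R.hn
  rcases R.ht with rfl | rfl
  · refine ⟨?_, ?_⟩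
    · intro h
      injection h with h
      omega
    · intro h
      cases h
  · refine ⟨?_, ?_⟩
    · intro h
      cases h
    · intro h
      injection h with h
      omega

theorem Row.f_ne (R : Row p q k A k' B m i W S t v f n) : f ≠ 0 := is_f_ne R.cla R.hI

theorem Row.u2 (R : Row p q k A k' B m i W S t v f n) : 2 ≤ v ^ f := Nat.one_lt_pow R.f_ne R.hv.one_lt

theorem Row.natAbs (R : Row p q k A k' B m i W S t v f n) : (sg t (v ^ f)).natAbs = v ^ f := by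
  rcases R.ht with rfl | rfl
  · exact Int.natAbs_natCast _
  · change (-((v ^ f : ℕ) : ℤ)).natAbs = v ^ f
    rw [Int.natAbs_neg, Int.natAbs_natCast]

theorem Row.hU (R : Row p q k A k' B m i W S t v f n) : 2 ≤ |sg t (v ^ f)| := by
  rw [← natAbs_cast, R.natAbs]
  exact_mod_cast R.u2

theorem Row.prov (R : Row p q k A k' B m i W S t v f n) : Prov S v (sg t (v ^ f)) n := by
  have h := R.hI
  rcases R.ht with h1 | h1
  · subst h1; exact prov_psl R.hv R.hn h
  · subst h1; exact prov_psu R.hv R.hn h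

theorem Row.tnum_eq (R : Row p q k A k' B m i W S t v f n) (j : ℕ) : tnum t (v ^ f) j = V (sg t (v ^ f)) j := by
  have hu := R.u2
  rcases R.ht with rfl | rfl
  · have : sg (.psl n) (v ^ f) = ((v ^ f : ℕ) : ℤ) := rfl
    rw [this, V_pos_eq (by omega), VV, tnum]
    simp
  · have : sg (.psu n) (v ^ f) = -((v ^ f : ℕ) : ℤ) := rfl
    rw [this, V_neg_eq (by omega), VV, tnum]
    simp [Nat.even_iff]

theorem Row.adjF (R : Row p q k A k' B m i W S t v f n) : AdjFacts t v f S := by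
  have := R.h.fin
  exact adjFacts R.cla R.hv R.hI

theorem Row.torF (R : Row p q k A k' B m i W S t v f n) : TorFacts t v f S := by
  have := R.h.fin
  exact torFacts R.cla R.hv R.hI

/-- regular classes -/
theorem Row.reg (R : Row p q k A k' B m i W S t v f n) {x : ℕ} (hx : x.Prime) (h3 : 3 ≤ cls t (v ^ f) x) :
    5 ≤ x ∧ x ≠ v ∧ ¬ x ∣ v ∧ x ≠ 2 := by
  obtain ⟨h1, h2, -⟩ := cls_facts hx h3
  have h4 : ¬ x ∣ v := fun hd => h2 (hd.trans (dvd_pow_self v R.f_ne))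
  exact ⟨h1, fun h => h4 (by rw [h]), h4, by omega⟩

theorem Row.wS_reg' (R : Row p q k A k' B m i W S t v f n) {x : ℕ} (hx : x.Prime) (h3 : 3 ≤ cls t (v ^ f) x) :
    wS t (v ^ f) x = cls t (v ^ f) x := by
  rw [wS_reg R.cla (by have := R.u2; omega) hx h3, R.wt_eq]

/-- not adjacent in `S` : the weights -/
theorem Row.wS_lt (R : Row p q k A k' B m i W S t v f n) {x y : ℕ} (hx : x.Prime) (hy : y.Prime) (hxy : x ≠ y)
    (hna : ¬ ∃ g : S, orderOf g = x * y) : n < wS t (v ^ f) x + wS t (v ^ f) y := by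
  by_contra hcon
  apply hna
  refine adj_wS R.cla R.hI hx hy hxy ?_
  rw [R.cS_eq, R.rk_eq]
  omega

theorem cls_two_le (t : Fam) (q : ℕ) : cls t q 2 ≤ 2 := by
  rw [cls]
  have h1 : ((sg t q : ℤ) : ZMod 2) = 0 ∨ ((sg t q : ℤ) : ZMod 2) = 1 := by
    generalize ((sg t q : ℤ) : ZMod 2) = a
    revert a
    decide
  rcases h1 with h1 | h1
  · rw [h1, orderOf_zero]
    norm_num
  · rw [h1, orderOf_one]
    norm_num

theorem Row.dvd_card (R : Row p q k A k' B m i W S t v f n) {x N : ℕ} (hN : ∃ g : S, orderOf g = N) (hd : x ∣ N) :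
    x ∣ Nat.card S := by
  obtain ⟨g, rfl⟩ := hN
  have := R.h.fin
  exact hd.trans (orderOf_dvd_natCard g)

theorem exists_order_of_dvd {G : Type*} [Group G] [Finite G] {x N : ℕ} (hN : ∃ g : G, orderOf g = N) (hd : x ∣ N) :
    ∃ g : G, orderOf g = x := by
  obtain ⟨g, rfl⟩ := hN
  obtain ⟨c, hc⟩ := hd
  have h0 : orderOf g ≠ 0 := (orderOf_pos g).ne'
  refine ⟨g ^ c, ?_⟩
  have hc0 : c ≠ 0 := by rintro rfl; rw [mul_zero] at hc; exact h0 hc
  rw [orderOf_pow' g hc0, Nat.gcd_eq_right (hc ▸ Dvd.intro_left _ rfl), hc]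
  exact Nat.mul_div_cancel _ (Nat.pos_of_ne_zero hc0)

/-- the class of a prime of `|S|` is at most `n` -/
theorem Row.cls_le (R : Row p q k A k' B m i W S t v f n) {x : ℕ} (hx : x.Prime) (h3 : 3 ≤ cls t (v ^ f) x)
    (hd : x ∣ Nat.card S) : cls t (v ^ f) x ≤ n := by
  obtain ⟨-, -, h1, h2⟩ := R.reg hx h3
  exact (R.mem_iff _).1 ((R.adjF.dvd x hx h2 h1 h3).1 hd)

/-- two primes of one order in the big classes are in the same class -/
theorem Row.same (R : Row p q k A k' B m i W S t v f n) {N x y : ℕ} (hN : ∃ g : S, orderOf g = N) (hx : x.Prime)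
    (hy : y.Prime) (hxN : x ∣ N) (hyN : y ∣ N) (h3 : n < 2 * cls t (v ^ f) x) (h3' : n < 2 * cls t (v ^ f) y) :
    cls t (v ^ f) x = cls t (v ^ f) y := by
  by_contra hne
  have hn := R.hn
  have := R.h.fin
  have a3 : 3 ≤ cls t (v ^ f) x := by omega
  have b3 : 3 ≤ cls t (v ^ f) y := by omega
  have hxy : x ≠ y := fun h => hne (by rw [h])
  obtain ⟨-, -, x1, x2⟩ := R.reg hx a3
  obtain ⟨-, -, y1, y2⟩ := R.reg hy b3
  have hxn := R.cls_le hx a3 (R.dvd_card hN hxN)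
  have hyn := R.cls_le hy b3 (R.dvd_card hN hyN)
  have hxyN : x * y ∣ N := ((Nat.coprime_primes hx hy).2 hxy).mul_dvd_of_dvd_of_dvd hxN hyN
  have h1 := (R.adjF.adj x y hx hy x2 y2 hxy x1 y1 a3 b3 ((R.mem_iff _).2 hxn) ((R.mem_iff _).2 hyn)).1
    (exists_order_of_dvd hN hxyN)
  apply h1
  rw [R.na_iff]
  have key : ∀ a b : ℕ, n < 2 * a → b ≤ n → a ≠ b → 0 < b → ¬ a ∣ b := by
    rintro a b h1 h2 h3 h4 ⟨c, rfl⟩
    rcases c with _ | _ | c
    · omega
    · omega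
    · have : a * 2 ≤ a * (c + 1 + 1) := Nat.mul_le_mul_left a (by omega)
      omega
  exact ⟨by omega, key _ _ h3 hyn hne (by omega), key _ _ h3' hxn (Ne.symm hne) (by omega)⟩

/-- an order all of whose primes are in one big class `s` divides `V U s` -/
theorem Row.cls_dvd (R : Row p q k A k' B m i W S t v f n) {N s : ℕ} (hN : ∃ g : S, orderOf g = N)
    (hs : ∀ x : ℕ, x.Prime → x ∣ N → cls t (v ^ f) x = s) (h2 : n < 2 * s) :
    N ∣ V (sg t (v ^ f)) s ∧ ∀ j : ℕ, 1 ≤ j → j < s → Nat.Coprime N (V (sg t (v ^ f)) j) := by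
  have hn := R.hn
  have := R.h.fin
  constructor
  · rw [Nat.dvd_iff_prime_pow_dvd_dvd]
    intro x a hx hd
    rcases Nat.eq_zero_or_pos a with rfl | ha
    · rw [pow_zero]; exact one_dvd _
    have hxN : x ∣ N := (dvd_pow_self x (by omega)).trans hd
    have hc := hs x hx hxN
    have h3 : 3 ≤ cls t (v ^ f) x := by omega
    obtain ⟨-, -, x1, x2⟩ := R.reg hx h3
    have hxn := R.cls_le hx h3 (R.dvd_card hN hxN)
    have h5 := R.torF.big x a hx x2 x1 h3 ((R.mem_iff _).2 hxn) (by rw [R.rk_eq, R.wt_eq, hc]; exact h2)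
      (exists_order_of_dvd hN hd)
    rw [R.tnum_eq, hc] at h5
    exact h5
  · intro j hj1 hj2
    refine Nat.coprime_of_dvd fun x hx h3 h4 => ?_
    rw [dvd_V_iff, hs x hx h3] at h4
    have := Nat.le_of_dvd (by omega) h4
    omega

/-- the primes of `k` are in the two top classes -/
theorem Row.k_top (R : Row p q k A k' B m i W S t v f n) {r : ℕ} (hr : r.Prime) (hk : r ∣ k) :
    3 ≤ cls t (v ^ f) r ∧ n < cls t (v ^ f) r + 2 ∧ cls t (v ^ f) r ≤ n := by
  have hn := R.hn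
  have h1 := R.h.twoS hr hk
  have hr7 := (R.h.lw.side.prime R.h.lw.q2 hr (Or.inl hk)).1
  have h2 := R.wS_lt Nat.prime_two hr (by omega) h1
  have h3 := wS_le_two R.cla (cls_two_le t (v ^ f))
  have h4 : 3 ≤ cls t (v ^ f) r := by
    by_contra hcon
    have := wS_le_two R.cla (t := t) (q := v ^ f) (x := r) (by omega)
    omega
  rw [R.wS_reg' hr h4] at h2
  exact ⟨h4, by omega, R.cls_le hr h4 (R.dvd_card (R.h.kS R.hg) hk)⟩

/-- **The class `i0`, the torus `T`.** -/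
theorem Row.nd (R : Row p q k A k' B m i W S t v f n) : ∃ i0 T : ℕ, ND q k A k' B (sg t (v ^ f)) n i0 T ∧
    (∀ r : ℕ, r.Prime → r ∣ k → cls t (v ^ f) r = i0) ∧ (∀ x : ℕ, x.Prime → cls t (v ^ f) x = i0 → x ∣ A) ∧
    n < i0 + 2 ∧ i0 ≤ n := by
  have hn := R.hn
  have := R.h.fin
  obtain ⟨r₀, hr₀, hrk⟩ := Nat.exists_prime_and_dvd R.h.lw.k_pos.1.ne'
  obtain ⟨h1, h2, h3⟩ := R.k_top hr₀ hrk
  set i0 := cls t (v ^ f) r₀ with hi0
  have hkS := R.h.kS R.hg
  have hall : ∀ r : ℕ, r.Prime → r ∣ k → cls t (v ^ f) r = i0 := by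
    intro r hr hd
    have h4 := R.k_top hr hd
    exact R.same hkS hr hr₀ hd hrk (by omega) (by omega)
  obtain ⟨hdvd, hreg⟩ := R.cls_dvd hkS hall (by omega)
  have hP := R.prov
  have hδ : 0 < V (sg t (v ^ f)) 1 := V_pos_i R.hU le_rfl
  have hcop1 : ∀ x : ℕ, (∀ y : ℕ, y.Prime → y ∣ x → cls t (v ^ f) y = i0) → Nat.Coprime x (V (sg t (v ^ f)) 1) := by
    intro x hx
    refine Nat.coprime_of_dvd fun y hy h4 h5 => ?_
    rw [dvd_V_iff, hx y hy h4] at h5
    have := Nat.le_of_dvd (by omega) h5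
    omega
  have hgd : Nat.gcd n (V (sg t (v ^ f)) 1) ∣ V (sg t (v ^ f)) 1 := Nat.gcd_dvd_right _ _
  have hcop : IsCoprime (sg t (v ^ f)) (q : ℤ) := by
    rw [Int.isCoprime_iff_gcd_eq_one]
    change Nat.gcd (sg t (v ^ f)).natAbs q = 1
    rw [R.natAbs]
    obtain ⟨e, he⟩ := R.h.lw.qp
    rw [he]
    exact Nat.Coprime.pow _ _ ((Nat.coprime_primes R.hv R.h.lw.pp).2 R.hvp)
  -- the torus
  have hT : ∃ T : ℕ, ((i0 = n ∧ T * (V (sg t (v ^ f)) 1 * Nat.gcd n (V (sg t (v ^ f)) 1)) = V (sg t (v ^ f)) n) ∨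
      (i0 + 1 = n ∧ T * Nat.gcd n (V (sg t (v ^ f)) 1) = V (sg t (v ^ f)) i0)) ∧ (∃ x : S, orderOf x = T) ∧
      (∀ x : ℕ, (∀ y : ℕ, y.Prime → y ∣ x → cls t (v ^ f) y = i0) → x ∣ V (sg t (v ^ f)) i0 → x ∣ T) := by
    rcases Nat.lt_or_ge i0 n with h4 | h4
    · have hi : i0 + 1 = n := by omega
      have h5 := hP.dvd1
      rw [show n - 1 = i0 by omega] at h5
      obtain ⟨T, hT⟩ := h5
      rw [mul_comm] at hT
      refine ⟨T, Or.inr ⟨hi, hT.symm⟩, hP.pred T (by rw [show n - 1 = i0 by omega]; exact hT.symm), ?_⟩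
      intro x hx hd
      rw [hT] at hd
      exact Nat.Coprime.dvd_of_dvd_mul_right ((hcop1 x hx).coprime_dvd_right hgd) hd
    · have hi : i0 = n := by omega
      obtain ⟨T, hT⟩ := hP.dvd2
      rw [mul_comm] at hT
      refine ⟨T, Or.inl ⟨hi, hT.symm⟩, hP.top T hT.symm, ?_⟩
      intro x hx hd
      rw [hi, hT] at hd
      exact Nat.Coprime.dvd_of_dvd_mul_right ((hcop1 x hx).mul_right ((hcop1 x hx).coprime_dvd_right hgd)) hd
  obtain ⟨T, hT1, hT2, hT3⟩ := hT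
  have hkT : k ∣ T := hT3 k hall hdvd
  have hTA : T ∣ A := by
    obtain ⟨x, hx⟩ := hT2
    rw [← hx]
    exact R.h.uk hr₀ hrk x (by rw [hx]; exact hrk.trans hkT)
  refine ⟨i0, T, ⟨R.h.lw.side, R.h.lw.q7, R.hU, ⟨v, f, R.hv, R.natAbs⟩, hn, hcop, hT1, hkT, hTA, hreg⟩, hall, ?_,
    h2, h3⟩
  intro x hx hc
  refine (hT3 x ?_ ?_).trans hTA
  · intro y hy hd
    rwa [(Nat.prime_dvd_prime_iff_eq hy hx).1 hd]
  · rw [dvd_V_iff, hc]

end Cfsg.Agent.R2.Spec.X4.H4
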