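import Cfsg.Agent.R2.Spec.X4.H4.Geo

/-!
# X4, the rows `L_n`, `U_n` (`n ≥ 4`): the two general lemmas (helper4)

`2 C |S_N| = d_n (q³ + d)`, `|S_i| = |U ^ i - 1| / |U - 1|`:

* `zgen` : `z = (q² + 1) / 2` does not divide `S_s`, `s < N`;
* `bgen` : `k' ∣ S_j`, `j < N`, gives `C |S_m| = d_n`, `|S_N| = |S_m| A`, `u ^ m |S_j| = |S_m| B`, `m = N - j`.
-/

set_option autoImplicit false

namespace Cfsg.Agent.R2.Spec.X4.H4

theorem sub_dvd_two {q d c : ℤ} (hd : d = 1 ∨ d = -1) (h : (q - d) ∣ c * (q * (q ^ 2 + 1))) : (q - d) ∣ 2 * c := by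
  have hd2 : d * d = 1 := by rcases hd with rfl | rfl <;> norm_num
  have hd3 : d * d * d = d := by rw [hd2, one_mul]
  have h1 : c * (q * (q ^ 2 + 1)) = (q - d) * (c * (q ^ 2 + q * d + d * d + 1)) + c * (2 * d) := by
    linear_combination c * hd3
  rw [h1] at h
  have h2 : (q - d) ∣ c * (2 * d) := (Int.dvd_add_right (Dvd.intro _ rfl)).1 h
  have h3 : (q - d) ∣ c * (2 * d) * d := Dvd.dvd.mul_right h2 d
  rwa [show c * (2 * d) * d = 2 * c by linear_combination (2 * c) * hd2] at h3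

theorem pow_le_two {U : ℤ} {m : ℕ} (hU : 2 ≤ |U|) (hm : 1 ≤ m) (h : U ^ m ∣ 2) : m = 1 := by
  by_contra hne
  have h1 : |U ^ m| ≤ 2 := Int.le_of_dvd (by norm_num) ((abs_dvd _ _).2 h)
  rw [abs_pow] at h1
  have h2 : |U| ^ 2 ≤ |U| ^ m := pow_le_pow_right₀ (by omega) (by omega)
  nlinarith

/-- **The first general lemma.** -/
theorem zgen {q d U C dn z : ℤ} {m s : ℕ} (hd : d = 1 ∨ d = -1) (hq : 50 ≤ q) (hz : 2 * z = q ^ 2 + 1)
    (hU : 2 ≤ |U|) (hm : 1 ≤ m) (hs : 1 ≤ s) (hms : 4 ≤ m + s) (hC : 0 < C) (hdn : 0 < dn) (hdn' : dn ≤ |U - 1|)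
    (h6 : 6 * dn ≤ q) (hE : 2 * C * |S U (m + s)| = dn * (q ^ 3 + d)) (hzs : z ∣ S U s) (hco : IsCoprime U q)
    (hcz : IsCoprime U z) : False := by
  obtain ⟨σ, hσ, hσS⟩ := exists_sign (S U (m + s))
  have hd2 : d * d = 1 := by rcases hd with rfl | rfl <;> norm_num
  have hσ2 : σ * σ = 1 := by rcases hσ with rfl | rfl <;> norm_num
  have hq0 : 0 < q := by omega
  have hz0 : 0 < z := by nlinarith
  have hδ := sub_one_pos hU
  rw [← hσS] at hE
  have hadd := S_add U m s
  -- divisibility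
  have h1 : z ∣ 2 * C * σ * S U m + dn * (q - d) := by
    have h2 : 2 * C * σ * S U m + dn * (q - d) = z * (2 * q * dn) - (2 * C * σ * U ^ m) * S U s := by
      rw [hadd] at hE
      linear_combination hE - dn * q * hz
    rw [h2]
    exact dvd_sub (Dvd.intro _ rfl) (Dvd.dvd.mul_left hzs _)
  -- the bound
  have hSs : z ≤ |S U s| := Int.le_of_dvd (abs_pos.2 (S_ne_zero hU hs)) ((dvd_abs _ _).2 hzs)
  have h3 := S_mul_le hU hm hs hms
  have hqd : q ^ 3 + d ≤ q ^ 3 + 1 := by rcases hd with rfl | rfl <;> omega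
  have h4 : |U - 1| * ((2 * C * |S U m|) * z) ≤ |U - 1| * (2 * (q ^ 3 + 1)) := by
    have e1 : |U - 1| * ((2 * C * |S U m|) * z) ≤ |U - 1| * ((2 * C * |S U m|) * |S U s|) := by
      apply mul_le_mul_of_nonneg_left _ (by omega)
      exact mul_le_mul_of_nonneg_left hSs (by positivity)
    have e2 : |U - 1| * ((2 * C * |S U m|) * |S U s|) = (2 * C) * (|U - 1| * (|S U m| * |S U s|)) := by ring
    have e3 : (2 * C) * (|U - 1| * (|S U m| * |S U s|)) ≤ (2 * C) * (2 * |S U (m + s)|) :=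
      mul_le_mul_of_nonneg_left h3 (by omega)
    have e4 : (2 * C) * (2 * |S U (m + s)|) = dn * (2 * (q ^ 3 + d)) := by
      rw [← hσS]
      linear_combination 2 * hE
    have e5 : dn * (2 * (q ^ 3 + d)) ≤ dn * (2 * (q ^ 3 + 1)) := mul_le_mul_of_nonneg_left (by omega) (by omega)
    have e6 : dn * (2 * (q ^ 3 + 1)) ≤ |U - 1| * (2 * (q ^ 3 + 1)) :=
      mul_le_mul_of_nonneg_right hdn' (by positivity)
    omega
  have h5 : (2 * C * |S U m|) * z ≤ 2 * (q ^ 3 + 1) := le_of_mul_le_mul_left h4 (by omega)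
  have h7 : 2 * C * |S U m| ≤ 4 * q := by
    by_contra hcon
    rw [not_le] at hcon
    have h8 : (4 * q + 1) * z ≤ (2 * C * |S U m|) * z := mul_le_mul_of_nonneg_right (by omega) (by omega)
    nlinarith
  -- equality
  have h8 : 2 * C * σ * S U m + dn * (q - d) = 0 := by
    apply Int.eq_zero_of_abs_lt_dvd h1
    have e1 : |2 * C * σ * S U m + dn * (q - d)| ≤ |2 * C * σ * S U m| + |dn * (q - d)| := abs_add_le _ _
    have e2 : |2 * C * σ * S U m| = 2 * C * |S U m| := by
      rw [abs_mul, abs_mul, abs_of_pos (by omega : (0 : ℤ) < 2 * C)]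
      rcases hσ with rfl | rfl <;> simp
    have e3 : |dn * (q - d)| ≤ dn * (q + 1) := by
      rw [abs_mul, abs_of_pos hdn]
      apply mul_le_mul_of_nonneg_left _ (by omega)
      rcases hd with rfl | rfl
      · rw [abs_of_pos (by omega)]; omega
      · rw [abs_of_pos (by omega)]; omega
    have e4 : 6 * (dn * (q + 1)) ≤ q * (q + 1) := by nlinarith
    nlinarith
  -- elimination
  have h9 : S U (m + s) * (q - d) = -(S U m * (q ^ 3 + d)) := by
    have hne : 2 * C * σ * dn ≠ 0 := by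
      have hσ0 : σ ≠ 0 := by rintro rfl; simp at hσ2
      have : C ≠ 0 := by omega
      have : dn ≠ 0 := by omega
      simp_all
    apply mul_left_cancel₀ hne
    linear_combination (dn * (q - d)) * hE + dn * (q ^ 3 + d) * h8
  have h10 : U ^ m * (S U s * (q - d)) = -(2 * (S U m * (q * z))) := by
    rw [hadd] at h9
    linear_combination h9 + S U m * q * hz
  have h11 : U ^ m ∣ 2 := by
    have c1 : IsCoprime (U ^ m) (S U m * (q * z)) :=
      (((S_coprime U hm).mul_right (hco.mul_right hcz))).pow_left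
    have c2 : U ^ m ∣ 2 * (S U m * (q * z)) := by
      rw [← Int.dvd_neg]
      exact ⟨_, h10.symm⟩
    exact c1.dvd_of_dvd_mul_right c2
  obtain rfl := pow_le_two hU hm h11
  rw [pow_one, S_one, one_mul] at h10
  have h12 : (q - d) ∣ 2 * 1 := by
    apply sub_dvd_two hd
    rw [one_mul]
    refine ⟨-(U * S U s), ?_⟩
    linear_combination h10 - q * hz
  have h13 := Int.le_of_dvd (by norm_num) h12
  rcases hd with rfl | rfl <;> omega

/-- **The second general lemma.** -/
theorem bgen {q d U C dn k' A B : ℤ} {m s : ℕ} (hd : d = 1 ∨ d = -1) (hq : 50 ≤ q) (hA : 2 * A = q ^ 3 + d)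
    (hB : 2 * B = q ^ 3 - d) (hk : q ^ 2 - q + 1 ≤ 3 * k') (hkB : k' ∣ B)
    (hU : 2 ≤ |U|) (hm : 1 ≤ m) (hs : 1 ≤ s) (hms : 4 ≤ m + s) (hC : 0 < C) (hdn : 0 < dn) (hdn' : dn ≤ |U - 1|)
    (h6 : 6 * dn ≤ q) (hE : 2 * C * |S U (m + s)| = dn * (q ^ 3 + d)) (hks : k' ∣ S U s) :
    C * |S U m| = dn ∧ |S U (m + s)| = |S U m| * A ∧ |U| ^ m * |S U s| = |S U m| * B := by
  obtain ⟨σ, hσ, hσS⟩ := exists_sign (S U (m + s))
  have hd2 : d * d = 1 := by rcases hd with rfl | rfl <;> norm_num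
  have hσ2 : σ * σ = 1 := by rcases hσ with rfl | rfl <;> norm_num
  have hq0 : 0 < q := by omega
  have hk0 : 0 < k' := by nlinarith
  have hδ := sub_one_pos hU
  rw [← hσS] at hE
  have hadd := S_add U m s
  -- divisibility
  have h1 : k' ∣ C * σ * S U m - dn * d := by
    have h2 : C * σ * S U m - dn * d = dn * B - (C * σ * U ^ m) * S U s := by
      rw [hadd] at hE
      apply mul_left_cancel₀ (two_ne_zero (α := ℤ))
      linear_combination hE - dn * hB
    rw [h2]
    exact dvd_sub (Dvd.dvd.mul_left hkB _) (Dvd.dvd.mul_left hks _)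
  -- the bound
  have hSs : k' ≤ |S U s| := Int.le_of_dvd (abs_pos.2 (S_ne_zero hU hs)) ((dvd_abs _ _).2 hks)
  have h3 := S_mul_le hU hm hs hms
  have hqd : q ^ 3 + d ≤ q ^ 3 + 1 := by rcases hd with rfl | rfl <;> omega
  have h4 : |U - 1| * ((C * |S U m|) * k') ≤ |U - 1| * (q ^ 3 + 1) := by
    have e1 : |U - 1| * ((C * |S U m|) * k') ≤ |U - 1| * ((C * |S U m|) * |S U s|) := by
      apply mul_le_mul_of_nonneg_left _ (by omega)
      exact mul_le_mul_of_nonneg_left hSs (by positivity)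
    have e2 : |U - 1| * ((C * |S U m|) * |S U s|) = C * (|U - 1| * (|S U m| * |S U s|)) := by ring
    have e3 : C * (|U - 1| * (|S U m| * |S U s|)) ≤ C * (2 * |S U (m + s)|) :=
      mul_le_mul_of_nonneg_left h3 (by omega)
    have e4 : C * (2 * |S U (m + s)|) = dn * (q ^ 3 + d) := by
      rw [← hσS]
      linear_combination hE
    have e5 : dn * (q ^ 3 + d) ≤ dn * (q ^ 3 + 1) := mul_le_mul_of_nonneg_left (by omega) (by omega)
    have e6 : dn * (q ^ 3 + 1) ≤ |U - 1| * (q ^ 3 + 1) := mul_le_mul_of_nonneg_right hdn' (by positivity)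
    omega
  have h5 : (C * |S U m|) * k' ≤ q ^ 3 + 1 := le_of_mul_le_mul_left h4 (by omega)
  have hX0 : 0 ≤ C * |S U m| := by positivity
  have h7 : C * |S U m| ≤ 3 * (q + 1) := by
    by_contra hcon
    rw [not_le] at hcon
    have h8 : (3 * (q + 1) + 1) * (3 * k') ≤ (C * |S U m|) * (3 * k') :=
      mul_le_mul_of_nonneg_right (by omega) (by omega)
    have h9 : (3 * (q + 1) + 1) * (q ^ 2 - q + 1) ≤ (3 * (q + 1) + 1) * (3 * k') :=
      mul_le_mul_of_nonneg_left hk (by omega)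
    nlinarith
  -- equality
  have h8 : C * σ * S U m - dn * d = 0 := by
    apply Int.eq_zero_of_abs_lt_dvd h1
    have e1 : |C * σ * S U m - dn * d| ≤ |C * σ * S U m| + |dn * d| := abs_sub _ _
    have e2 : |C * σ * S U m| = C * |S U m| := by
      rw [abs_mul, abs_mul, abs_of_pos hC]
      rcases hσ with rfl | rfl <;> simp
    have e3 : |dn * d| = dn := by
      rw [abs_mul, abs_of_pos hdn]
      rcases hd with rfl | rfl <;> simp
    nlinarith
  have h9 : C * |S U m| = dn := by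
    have e2 : |C * σ * S U m| = C * |S U m| := by
      rw [abs_mul, abs_mul, abs_of_pos hC]
      rcases hσ with rfl | rfl <;> simp
    have e3 : |dn * d| = dn := by
      rw [abs_mul, abs_of_pos hdn]
      rcases hd with rfl | rfl <;> simp
    rw [← e2, ← e3, sub_eq_zero.1 h8]
  have hCσ : C * σ ≠ 0 := by
    have hσ0 : σ ≠ 0 := by rintro rfl; simp at hσ2
    exact mul_ne_zero (by omega) hσ0
  -- signed relations
  have h10 : S U (m + s) = d * S U m * A := by
    apply mul_left_cancel₀ (mul_ne_zero two_ne_zero hCσ : (2 : ℤ) * (C * σ) ≠ 0)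
    linear_combination hE - dn * hA - (d * 2 * A) * h8 + (-2 * A * dn) * hd2
  have h11 : U ^ m * S U s = d * S U m * B := by
    rw [hadd] at h10
    apply mul_left_cancel₀ (two_ne_zero (α := ℤ))
    linear_combination 2 * h10 + (d * S U m) * hA - (d * S U m) * hB + (2 * S U m) * hd2
  have hdabs : |d| = 1 := by rcases hd with rfl | rfl <;> simp
  have hA0 : 0 ≤ A := by
    have : 0 < q ^ 3 + d := by
      have : 0 < q ^ 3 := by positivity
      rcases hd with rfl | rfl
      · omega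
      · nlinarith [pow_pos hq0 2]
    omega
  have hB0 : 0 ≤ B := by
    have h50 : (1 : ℤ) < q ^ 3 := one_lt_pow₀ (by omega) (by norm_num)
    rcases hd with rfl | rfl <;> omega
  refine ⟨h9, ?_, ?_⟩
  · rw [h10, abs_mul, abs_mul, hdabs, one_mul, abs_of_nonneg hA0]
  · rw [← abs_pow, ← abs_mul, h11, abs_mul, abs_mul, hdabs, one_mul, abs_of_nonneg hB0]

end Cfsg.Agent.R2.Spec.X4.H4
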