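import Mathlib

/-!
# X4, the rows `L_n`, `U_n` (`n ≥ 4`): the numbers `(U ^ i - 1) / (U - 1)` (helper4)
-/

set_option autoImplicit false

namespace Cfsg.Agent.R2.Spec.X4.H4

/-- the geometric sum -/
def S (U : ℤ) (i : ℕ) : ℤ := ∑ t ∈ Finset.range i, U ^ t

theorem S_mul (U : ℤ) (i : ℕ) : S U i * (U - 1) = U ^ i - 1 := by
  rw [S]
  exact geom_sum_mul U i

theorem S_zero (U : ℤ) : S U 0 = 0 := by simp [S]

theorem S_one (U : ℤ) : S U 1 = 1 := by simp [S]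

theorem S_add (U : ℤ) (m s : ℕ) : S U (m + s) = U ^ m * S U s + S U m := by
  rw [S, S, S, Finset.sum_range_add, Finset.mul_sum, add_comm]
  congr 1
  apply Finset.sum_congr rfl
  intro t _
  rw [pow_add]

theorem S_succ (U : ℤ) (m : ℕ) : S U (m + 1) = U * S U m + 1 := by
  rw [add_comm m 1, S_add, pow_one, S_one]

theorem S_coprime (U : ℤ) {m : ℕ} (hm : 1 ≤ m) : IsCoprime U (S U m) := by
  obtain ⟨k, rfl⟩ : ∃ k, m = k + 1 := ⟨m - 1, by omega⟩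
  rw [S_succ]
  exact ⟨-S U k, 1, by ring⟩

theorem abs_S_mul (U : ℤ) (i : ℕ) : |S U i| * |U - 1| = |U ^ i - 1| := by
  rw [← abs_mul, S_mul]

theorem sub_one_pos {U : ℤ} (hU : 2 ≤ |U|) : 1 ≤ |U - 1| := by
  rcases abs_cases U with ⟨h1, h2⟩ | ⟨h1, h2⟩ <;> rcases abs_cases (U - 1) with ⟨h3, h4⟩ | ⟨h3, h4⟩ <;> omega

theorem sub_one_le (U : ℤ) : |U - 1| ≤ |U| + 1 := by
  have := abs_sub U 1
  simpa using this

theorem le_sub_one (U : ℤ) : |U| - 1 ≤ |U - 1| := by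
  have := abs_sub_abs_le_abs_sub U 1
  simpa using this

theorem V_le (U : ℤ) (i : ℕ) : |U ^ i - 1| ≤ |U| ^ i + 1 := by
  have := abs_sub (U ^ i) 1
  rwa [abs_pow, abs_one] at this

theorem le_V (U : ℤ) (i : ℕ) : |U| ^ i - 1 ≤ |U ^ i - 1| := by
  have := abs_sub_abs_le_abs_sub (U ^ i) 1
  rwa [abs_pow, abs_one] at this

theorem pow_add_le {u : ℤ} (hu : 2 ≤ u) {m s : ℕ} (hm : 1 ≤ m) (hs : 1 ≤ s) (h : 4 ≤ m + s) :
    u ^ m + u ^ s + 3 ≤ u ^ (m + s) := by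
  have key : ∀ a b : ℕ, 1 ≤ a → 1 ≤ b → a ≤ b → 4 ≤ a + b → u ^ a + u ^ b + 3 ≤ u ^ (a + b) := by
    intro a b ha hb hab hab4
    rcases Nat.lt_or_ge a 2 with h2 | h2
    · obtain rfl : a = 1 := by omega
      have h3 : u ^ 3 ≤ u ^ b := pow_le_pow_right₀ (by omega) (by omega)
      have h5 : u * 4 ≤ u ^ 3 := by
        have h6 : (4 : ℤ) ≤ u * u := by nlinarith
        calc u * 4 ≤ u * (u * u) := mul_le_mul_of_nonneg_left h6 (by omega)
          _ = u ^ 3 := by ring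
      have h7 : 2 * u ^ b ≤ u * u ^ b := mul_le_mul_of_nonneg_right hu (by positivity)
      rw [pow_add, pow_one]
      omega
    · have h3 : u ^ 2 ≤ u ^ a := pow_le_pow_right₀ (by omega) h2
      have h4 : u ^ a ≤ u ^ b := pow_le_pow_right₀ (by omega) hab
      have h5 : (4 : ℤ) ≤ u ^ 2 := by nlinarith
      rw [pow_add]
      nlinarith
  rcases le_total m s with h1 | h1
  · exact key m s hm hs h1 h
  · have := key s m hs hm h1 (by omega)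
    rw [add_comm s m] at this
    omega

/-- `δ |S_m| |S_s| ≤ 2 |S_{m+s}|` -/
theorem S_mul_le {U : ℤ} (hU : 2 ≤ |U|) {m s : ℕ} (hm : 1 ≤ m) (hs : 1 ≤ s) (h : 4 ≤ m + s) :
    |U - 1| * (|S U m| * |S U s|) ≤ 2 * |S U (m + s)| := by
  have hδ := sub_one_pos hU
  have h1 := abs_S_mul U m
  have h2 := abs_S_mul U s
  have h3 := abs_S_mul U (m + s)
  have h4 := V_le U m
  have h5 := V_le U s
  have h6 := le_V U (m + s)
  have h7 := pow_add_le hU hm hs h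
  have h8 : |U ^ m - 1| * |U ^ s - 1| ≤ (|U| ^ m + 1) * (|U| ^ s + 1) :=
    mul_le_mul h4 h5 (abs_nonneg _) (by positivity)
  have h9 : |U ^ m - 1| * |U ^ s - 1| ≤ 2 * |U ^ (m + s) - 1| := by
    have h10 : (|U| ^ m + 1) * (|U| ^ s + 1) = |U| ^ (m + s) + |U| ^ m + |U| ^ s + 1 := by ring
    linarith
  rw [← h1, ← h2, ← h3] at h9
  have h10 : |U - 1| * (|U - 1| * (|S U m| * |S U s|)) ≤ |U - 1| * (2 * |S U (m + s)|) := by
    nlinarith
  exact le_of_mul_le_mul_left h10 (by omega)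

theorem S_ne_zero {U : ℤ} (hU : 2 ≤ |U|) {m : ℕ} (hm : 1 ≤ m) : S U m ≠ 0 := by
  intro h
  have h1 := S_mul U m
  rw [h, zero_mul] at h1
  have h2 : |U| ^ m = 1 := by
    rw [← abs_pow]
    have : U ^ m = 1 := by linarith
    rw [this, abs_one]
  have h3 : |U| ^ 1 ≤ |U| ^ m := pow_le_pow_right₀ (by omega) hm
  rw [pow_one] at h3
  omega

theorem exists_sign (x : ℤ) : ∃ σ : ℤ, (σ = 1 ∨ σ = -1) ∧ σ * x = |x| := by
  rcases abs_cases x with ⟨h, _⟩ | ⟨h, _⟩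
  · exact ⟨1, Or.inl rfl, by rw [h, one_mul]⟩
  · exact ⟨-1, Or.inr rfl, by rw [h]; ring⟩

end Cfsg.Agent.R2.Spec.X4.H4
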