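import Cfsg.Agent.R2.Spec.X4.H4.Gen
import Cfsg.Agent.R2.Spec.X4.Base

/-!
# X4, the rows `L_n`, `U_n` (`n ≥ 4`): the numerical data (helper4)

* `V U i = |U ^ i - 1|`;
* `ND` : the torus `T` of class `i0 ∈ {n - 1, n}`, `k ∣ T ∣ A`;
* `ND.u_le` : `u ^ (n - 2) ≤ 3 T`; `ND.d_le` : `6 d_n ≤ q` for `q ≥ 50`.
-/

set_option autoImplicit false

namespace Cfsg.Agent.R2.Spec.X4.H4

open Cfsg.Agent.R2.Spec.X4

/-- `|U ^ i - 1|` -/
def V (U : ℤ) (i : ℕ) : ℕ := (U ^ i - 1).natAbs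

theorem V_cast (U : ℤ) (i : ℕ) : (V U i : ℤ) = |U ^ i - 1| := Int.natCast_natAbs _

theorem V_eq (U : ℤ) (i : ℕ) : (V U i : ℤ) = |S U i| * |U - 1| := by rw [V_cast, abs_S_mul]

theorem V_one (U : ℤ) : (V U 1 : ℤ) = |U - 1| := by rw [V_cast, pow_one]

/-- the numerical data -/
structure ND (q k A k' B : ℕ) (U : ℤ) (n i0 T : ℕ) : Prop where
  side : Side q k A k' B
  q7 : 7 ≤ q
  hU : 2 ≤ |U|
  pp : ∃ v f : ℕ, v.Prime ∧ U.natAbs = v ^ f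
  n4 : 4 ≤ n
  cop : IsCoprime U (q : ℤ)
  tor : (i0 = n ∧ T * (V U 1 * Nat.gcd n (V U 1)) = V U n) ∨ (i0 + 1 = n ∧ T * Nat.gcd n (V U 1) = V U i0)
  kT : k ∣ T
  TA : T ∣ A
  kreg : ∀ j : ℕ, 1 ≤ j → j < i0 → Nat.Coprime k (V U j)

variable {q k A k' B : ℕ} {U : ℤ} {n i0 T : ℕ}

theorem ND.A_pos (h : ND q k A k' B U n i0 T) : 0 < A := by
  have h1 : q ^ 3 ≥ 7 ^ 3 := Nat.pow_le_pow_left h.q7 3
  rcases h.side.two_mul with h2 | h2 <;> omega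

theorem ND.A_le (h : ND q k A k' B U n i0 T) : 2 * A ≤ q ^ 3 + 1 := by
  rcases h.side.two_mul with h2 | h2 <;> omega

theorem ND.T_le (h : ND q k A k' B U n i0 T) : T ≤ A := Nat.le_of_dvd h.A_pos h.TA

theorem ND.T_pos (h : ND q k A k' B U n i0 T) : 0 < T := Nat.pos_of_dvd_of_pos h.TA h.A_pos

theorem ND.δ_pos (h : ND q k A k' B U n i0 T) : 0 < V U 1 := by
  have h1 := sub_one_pos h.hU
  rw [← V_one] at h1
  omega

theorem ND.dn_pos (h : ND q k A k' B U n i0 T) : 0 < Nat.gcd n (V U 1) := Nat.gcd_pos_of_pos_right _ h.δ_pos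

theorem ND.dn_le (h : ND q k A k' B U n i0 T) : Nat.gcd n (V U 1) ≤ V U 1 :=
  Nat.le_of_dvd h.δ_pos (Nat.gcd_dvd_right _ _)

theorem ND.dn_le_n (h : ND q k A k' B U n i0 T) : Nat.gcd n (V U 1) ≤ n :=
  Nat.le_of_dvd (by have := h.n4; omega) (Nat.gcd_dvd_left _ _)

theorem natAbs_cast (U : ℤ) : (U.natAbs : ℤ) = |U| := Int.natCast_natAbs U

theorem V_one_le (U : ℤ) : V U 1 ≤ U.natAbs + 1 := by
  have h1 := sub_one_le U
  rw [← V_one, ← natAbs_cast] at h1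
  omega

theorem le_V_one (U : ℤ) : U.natAbs ≤ V U 1 + 1 := by
  have h1 := le_sub_one U
  rw [← V_one, ← natAbs_cast] at h1
  omega

theorem V_le_nat (U : ℤ) (i : ℕ) : V U i ≤ U.natAbs ^ i + 1 := by
  have h1 := V_le U i
  rw [← V_cast, ← natAbs_cast] at h1
  exact_mod_cast h1

theorem le_V_nat (U : ℤ) (i : ℕ) : U.natAbs ^ i ≤ V U i + 1 := by
  have h1 := le_V U i
  rw [← V_cast] at h1
  have h2 : ((U.natAbs ^ i : ℕ) : ℤ) ≤ ((V U i + 1 : ℕ) : ℤ) := by push_cast; linarith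
  exact_mod_cast h2

theorem two_le_natAbs (hU : 2 ≤ |U|) : 2 ≤ U.natAbs := by
  rw [← natAbs_cast] at hU
  exact_mod_cast hU

/-- the size of the torus -/
theorem ND.u_le (h : ND q k A k' B U n i0 T) : U.natAbs ^ (n - 2) ≤ 3 * T := by
  have hu := two_le_natAbs h.hU
  have h4 := h.n4
  have hδ := V_one_le U
  have hdn := h.dn_le
  have hδ0 := h.δ_pos
  have hdn0 := h.dn_pos
  set u := U.natAbs with hu'
  set δ := V U 1
  set d := Nat.gcd n δ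
  set x := u ^ (n - 2) with hx
  by_contra hcon
  rw [not_le] at hcon
  have hT0 := h.T_pos
  rcases h.tor with ⟨hi, hT⟩ | ⟨hi, hT⟩
  · have h1 := le_V_nat U n
    rw [← hu', show u ^ n = x * u ^ 2 by rw [hx, ← pow_add, show n - 2 + 2 = n by omega], ← hT] at h1
    have h2 : δ * d ≤ (u + 1) * (u + 1) := Nat.mul_le_mul hδ (hdn.trans hδ)
    have h3 : T * (δ * d) ≤ T * ((u + 1) * (u + 1)) := Nat.mul_le_mul_left T h2
    have h5 : (3 * T + 1) * u ^ 2 ≤ x * u ^ 2 := Nat.mul_le_mul_right _ hcon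
    nlinarith
  · have h1 := le_V_nat U i0
    rw [← hu', show u ^ i0 = x * u by rw [hx, ← pow_succ, show n - 2 + 1 = i0 by omega], ← hT] at h1
    have h3 : T * d ≤ T * (u + 1) := Nat.mul_le_mul_left T (hdn.trans hδ)
    have h5 : (3 * T + 1) * u ≤ x * u := Nat.mul_le_mul_right _ hcon
    nlinarith

theorem ND.u_le' (h : ND q k A k' B U n i0 T) : 2 * U.natAbs ^ (n - 2) ≤ 3 * (q ^ 3 + 1) := by
  have h1 := h.u_le
  have h2 := h.T_le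
  have h3 := h.A_le
  omega

/-- **`6 d_n ≤ q`** -/
theorem ND.d_le (h : ND q k A k' B U n i0 T) (hq : 50 ≤ q) : 6 * Nat.gcd n (V U 1) ≤ q := by
  have h1 := h.u_le'
  have h2 := h.dn_le_n
  have h3 := h.dn_le.trans (V_one_le U)
  set d := Nat.gcd n (V U 1)
  set u := U.natAbs
  by_contra hcon
  rw [not_le] at hcon
  obtain ⟨e, he⟩ : ∃ e, d = 9 + e := ⟨d - 9, by omega⟩
  have h4 : u ^ 7 ≤ u ^ (n - 2) := Nat.pow_le_pow_right (by omega) (by omega)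
  have h5 : (8 + e) ^ 7 ≤ u ^ 7 := Nat.pow_le_pow_left (by omega) 7
  have h6 : q ^ 3 ≤ (7 * (8 + e)) ^ 3 := Nat.pow_le_pow_left (by omega) 3
  have h7 : 8 ^ 4 ≤ (8 + e) ^ 4 := Nat.pow_le_pow_left (by omega) 4
  have h8 : (8 + e) ^ 3 * 8 ^ 4 ≤ (8 + e) ^ 7 := by
    rw [show (8 + e) ^ 7 = (8 + e) ^ 3 * (8 + e) ^ 4 by ring]
    exact Nat.mul_le_mul_left _ h7
  have h9 : 1 ≤ (8 + e) ^ 3 := Nat.one_le_pow _ _ (by omega)
  have h10 : (7 * (8 + e)) ^ 3 = 343 * (8 + e) ^ 3 := by ring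
  omega

/-- the sign of `q` -/
theorem ND.sgn (h : ND q k A k' B U n i0 T) : ∃ d : ℤ, (d = 1 ∨ d = -1) ∧ 2 * (A : ℤ) = (q : ℤ) ^ 3 + d ∧
    2 * (B : ℤ) = (q : ℤ) ^ 3 - d := by
  rcases h.side.two_mul with ⟨-, h1, h2, -⟩ | ⟨-, h1, h2, -⟩
  · refine ⟨-1, Or.inr rfl, ?_, ?_⟩
    · zify at h1; linarith
    · zify at h2; linarith
  · refine ⟨1, Or.inl rfl, ?_, ?_⟩
    · zify at h1; linarith
    · zify at h2; linarith

/-- the fundamental equation -/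
theorem ND.eqn (h : ND q k A k' B U n i0 T) {d : ℤ} (hA : 2 * (A : ℤ) = (q : ℤ) ^ 3 + d) {a : ℕ} (ha : A = T * a) :
    (i0 = n ∧ 2 * (a : ℤ) * |S U n| = (Nat.gcd n (V U 1) : ℤ) * ((q : ℤ) ^ 3 + d)) ∨
    (i0 + 1 = n ∧ 2 * ((a : ℤ) * |U - 1|) * |S U i0| = (Nat.gcd n (V U 1) : ℤ) * ((q : ℤ) ^ 3 + d)) := by
  have hδ := sub_one_pos h.hU
  rcases h.tor with ⟨hi, hT⟩ | ⟨hi, hT⟩
  · left
    refine ⟨hi, ?_⟩
    have h1 : (T : ℤ) * ((V U 1 : ℤ) * (Nat.gcd n (V U 1) : ℤ)) = (V U n : ℤ) := by exact_mod_cast hT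
    rw [V_one, V_eq] at h1
    have h2 : (T : ℤ) * (Nat.gcd n (V U 1) : ℤ) = |S U n| := by
      apply mul_right_cancel₀ (b := |U - 1|) (by omega)
      linarith
    rw [← h2, ← hA]
    push_cast [ha]
    ring
  · right
    refine ⟨hi, ?_⟩
    have h1 : (T : ℤ) * (Nat.gcd n (V U 1) : ℤ) = (V U i0 : ℤ) := by exact_mod_cast hT
    rw [V_eq] at h1
    rw [← hA]
    push_cast [ha]
    linear_combination (-2 * (a : ℤ)) * h1

theorem dvd_S {x : ℕ} {j : ℕ} (hc : Nat.Coprime x (V U 1)) (hd : x ∣ V U j) : (x : ℤ) ∣ S U j := by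
  have h1 : IsCoprime (x : ℤ) (U - 1) := by
    rw [Int.isCoprime_iff_gcd_eq_one]
    rw [V, pow_one] at hc
    exact hc
  have h2 : (x : ℤ) ∣ S U j * (U - 1) := by
    rw [S_mul, Int.natCast_dvd]
    exact hd
  exact h1.dvd_of_dvd_mul_right h2

end Cfsg.Agent.R2.Spec.X4.H4
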