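import Cfsg.Agent.R2.Spec.X4.H4.Small
import Cfsg.Agent.R2.Spec.X4.H4.Bad
import Cfsg.Agent.R2.Spec.P1.Exp
import Cfsg.Agent.H126.Six.Elem
import Cfsg.Agent.H127.Six.Tori
import Cfsg.Agent.H127.Six.NumU

/-!
# X4, the rows `L_n`, `U_n` (`n ≥ 4`): the facts about the simple groups (helper4)

`LU t n` : `t = .psl n` or `t = .psu n`; `U = sg t (v ^ f)`.

* `Prov` : the cyclic tori and the exponent of the unipotent elements.
-/

set_option autoImplicit false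

namespace Cfsg.Agent.R2.Spec.X4.H4

open Cfsg Cfsg.Agent.H426.LieFam Cfsg.Agent.R2.Spec Cfsg.Agent.R2.Spec.P1 Cfsg.Agent.R2.Spec.F1
open Cfsg.Agent.H72

universe u

/-- the facts about the orders of the elements -/
structure Prov (S : Type u) [Group S] (v : ℕ) (U : ℤ) (n : ℕ) : Prop where
  low : ∀ j : ℕ, 1 ≤ j → j + 2 ≤ n → ∃ x : S, orderOf x = V U j
  dvd1 : Nat.gcd n (V U 1) ∣ V U (n - 1)
  pred : ∀ T : ℕ, T * Nat.gcd n (V U 1) = V U (n - 1) → ∃ x : S, orderOf x = T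
  dvd2 : V U 1 * Nat.gcd n (V U 1) ∣ V U n
  top : ∀ T : ℕ, T * (V U 1 * Nat.gcd n (V U 1)) = V U n → ∃ x : S, orderOf x = T
  unip : ∀ (κ : ℕ) (x : S), orderOf x = v ^ (κ + 1) → v ^ κ < n

theorem Prov.congr {S T : Type*} [Group S] [Group T] (e : S ≃* T) {v : ℕ} {U : ℤ} {n : ℕ} (h : Prov T v U n) :
    Prov S v U n := by
  have key : ∀ {N : ℕ}, (∃ x : T, orderOf x = N) → ∃ x : S, orderOf x = N := by
    rintro N ⟨x, hx⟩
    exact ⟨e.symm x, by rw [MulEquiv.orderOf_eq, hx]⟩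
  refine ⟨fun j h1 h2 => key (h.low j h1 h2), h.dvd1, fun T hT => key (h.pred T hT), h.dvd2,
    fun T hT => key (h.top T hT), fun κ x hx => h.unip κ (e x) (by rw [MulEquiv.orderOf_eq, hx])⟩

theorem V_pos_i {U : ℤ} {i : ℕ} (hU : 2 ≤ |U|) (hi : 1 ≤ i) : 0 < V U i := by
  rw [V_eq_nat']
  exact Nat.mul_pos (Int.natAbs_pos.2 (S_ne_zero hU hi)) (by
    have := sub_one_pos hU
    rw [← V_one] at this
    omega)
where
  V_eq_nat' : V U i = (S U i).natAbs * V U 1 := by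
    have h1 := V_eq U i
    rw [← V_one] at h1
    have h2 : ((V U i : ℕ) : ℤ) = (((S U i).natAbs * V U 1 : ℕ) : ℤ) := by
      rw [h1]; push_cast; rfl
    exact_mod_cast h2

theorem prov_psl {v f n : ℕ} {S : Type u} [Group S] (hv : v.Prime) (hn : 4 ≤ n) (h : Fam.Is v f S (.psl n)) :
    Prov S v (sg (.psl n) (v ^ f)) n := by
  have hf : f ≠ 0 := is_f_ne (t := .psl n) trivial h
  obtain ⟨-, -, F, _, _, hch, hF, ⟨e⟩⟩ := h
  refine Prov.congr e ?_
  have hfact := Fact.mk hv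
  have hu1 : 1 < v ^ f := Nat.one_lt_pow hf hv.one_lt
  have hV : ∀ j, V (sg (.psl n) (v ^ f)) j = (v ^ f) ^ j - 1 := by
    intro j
    have : sg (.psl n) (v ^ f) = ((v ^ f : ℕ) : ℤ) := rfl
    rw [this, V_pos_eq hu1.le, VV]
    simp
  have hV1 : V (sg (.psl n) (v ^ f)) 1 = v ^ f - 1 := by rw [hV, pow_one]
  refine ⟨?_, ?_, ?_, ?_, ?_, ?_⟩
  · intro j h1 h2
    obtain ⟨z, hz⟩ := H126.P4.torus (F := F) (n := n) (a := j) (by omega) h2
    exact ⟨z, by rw [hz, hV, hF]⟩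
  · rw [hV1, hV]
    exact (Nat.gcd_dvd_right _ _).trans (by
      have := Nat.sub_dvd_pow_sub_pow (v ^ f) 1 (n - 1)
      rwa [one_pow] at this)
  · intro T hT
    obtain ⟨z, hz⟩ := H126.P4.torus' (F := F) (n := n) (a := n - 1) (by omega) (by omega)
    refine ⟨z, ?_⟩
    rw [hz, hF]
    rw [hV1, hV] at hT
    rw [← hT]
    exact Nat.mul_div_cancel _ (Nat.gcd_pos_of_pos_left _ (by omega))
  · rw [hV1, hV]
    exact H126.P4.dvd_geom hu1.le
  · intro T hT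
    obtain ⟨z, hz⟩ := H126.Six.torusS (F := F) (n := n) (by omega)
    refine ⟨z, ?_⟩
    rw [hF] at hz
    rw [hV1, hV, ← hz] at hT
    exact (Nat.eq_of_mul_eq_mul_right (Nat.mul_pos (by omega) (Nat.gcd_pos_of_pos_left _ (by omega))) hT).symm
  · intro κ x hx
    exact H126.Six.lt_of_unip hx

theorem prov_psu {v f n : ℕ} {S : Type u} [Group S] (hv : v.Prime) (hn : 4 ≤ n) (h : Fam.Is v f S (.psu n)) :
    Prov S v (sg (.psu n) (v ^ f)) n := by
  have hf : f ≠ 0 := is_f_ne (t := .psu n) trivial h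
  obtain ⟨hn3, -, F, _, _, hch, hF, ⟨e⟩⟩ := h
  refine Prov.congr e ?_
  have hfact := Fact.mk hv
  have hu1 : 1 < v ^ f := Nat.one_lt_pow hf hv.one_lt
  have hV : ∀ j, V (sg (.psu n) (v ^ f)) j = H126.P4.T (v ^ f) j := by
    intro j
    have : sg (.psu n) (v ^ f) = -((v ^ f : ℕ) : ℤ) := rfl
    rw [this, V_neg_eq hu1.le, VV, H126.P4.T]
    simp [Nat.even_iff]
  have hV1 : V (sg (.psu n) (v ^ f)) 1 = v ^ f + 1 := by
    rw [hV, H126.P4.T, if_neg (by decide), pow_one]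
  refine ⟨?_, ?_, ?_, ?_, ?_, ?_⟩
  · intro j h1 h2
    obtain ⟨z, hz⟩ := H126.P4.torusU (F := F) (n := n) hF (a := j) (by omega) h2
    exact ⟨z, by rw [hz, hV]⟩
  · rw [hV1, hV]
    exact (Nat.gcd_dvd_right _ _).trans (H126.P4.add_one_dvd_T hu1.le)
  · intro T hT
    obtain ⟨z, hz⟩ := H126.P4.torusU' (F := F) (n := n) hF (a := n - 1) (by omega) (by omega) hn3
    refine ⟨z, ?_⟩
    rw [hz]
    rw [hV1, hV] at hT
    rw [← hT]
    exact Nat.mul_div_cancel _ (Nat.gcd_pos_of_pos_left _ (by omega))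
  · rw [hV1, hV]
    exact H126.P4.dvd_geomU hu1.le
  · intro T hT
    obtain ⟨z, hz⟩ := H127.Six.torusN (F := F) (n := n) hF hn3
    refine ⟨z, ?_⟩
    rw [hz]
    rw [hV1, hV] at hT
    rw [← hT]
    exact Nat.mul_div_cancel _ (Nat.mul_pos (by omega) (Nat.gcd_pos_of_pos_left _ (by omega)))
  · intro κ x hx
    exact H127.Six.lt_of_unipU hF hn3 hx

/-- `r ∣ V U i ↔ cls r ∣ i` -/
theorem dvd_V_iff {t : Fam} {q r i : ℕ} : r ∣ V (sg t q) i ↔ cls t q r ∣ i := by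
  rw [V, cls, orderOf_dvd_iff_pow_eq_one]
  rw [← Int.natCast_dvd, ← ZMod.intCast_zmod_eq_zero_iff_dvd]
  push_cast
  exact sub_eq_zero

end Cfsg.Agent.R2.Spec.X4.H4
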