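import Cfsg.Agent.R2.Spec.X4.H4.Num

/-!
# X4, the rows `L_n`, `U_n` (`n ≥ 4`): `(q² + 1) / 2` is not in one class (helper4), `q ≥ 50`
-/

set_option autoImplicit false

namespace Cfsg.Agent.R2.Spec.X4.H4

open Cfsg.Agent.R2.Spec.X4

variable {q k A k' B : ℕ} {U : ℤ} {n i0 T : ℕ}

/-- `x ∣ V_{2h}` prime to `V_h` gives `x ≤ u ^ h + 1` -/
theorem le_of_even {x h : ℕ} (hU : 2 ≤ |U|) (hc : Nat.Coprime x (V U h)) (hd : x ∣ V U (h + h)) :
    x ∣ (U ^ h + 1).natAbs ∧ x ≤ U.natAbs ^ h + 1 := by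
  have h1 : U ^ (h + h) - 1 = (U ^ h - 1) * (U ^ h + 1) := by rw [pow_add]; ring
  have h2 : x ∣ V U h * (U ^ h + 1).natAbs := by
    rw [V, ← Int.natAbs_mul, ← h1]
    exact hd
  have h3 : x ∣ (U ^ h + 1).natAbs := hc.dvd_of_dvd_mul_left h2
  refine ⟨h3, ?_⟩
  have h4 : (U ^ h + 1).natAbs ≤ U.natAbs ^ h + 1 := by
    have := Int.natAbs_add_le (U ^ h) 1
    rwa [Int.natAbs_pow, Int.natAbs_one] at this
  refine (Nat.le_of_dvd ?_ h3).trans h4
  rcases Nat.eq_zero_or_pos (U ^ h + 1).natAbs with h5 | h5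
  · exfalso
    rw [Int.natAbs_eq_zero] at h5
    have h6 : |U ^ h| = 1 := by
      rw [show U ^ h = -1 by linarith]
      simp
    rw [abs_pow] at h6
    rcases Nat.eq_zero_or_pos h with rfl | h7
    · norm_num at h5
    · have h8 : |U| ^ 1 ≤ |U| ^ h := pow_le_pow_right₀ (by omega) h7
      rw [pow_one] at h8
      omega
  · exact h5

/-- **`n` odd**: `i0 = n - 1` is impossible -/
theorem ND.odd_n (h : ND q k A k' B U n i0 T) (hq : 50 ≤ q) (hi : i0 + 1 = n) : n % 2 = 0 := by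
  by_contra hodd
  obtain ⟨m, hm⟩ : ∃ m, i0 = m + m := ⟨i0 / 2, by omega⟩
  have h4 := h.n4
  have h6 := h.d_le hq
  have hdn := h.dn_pos
  have hA := h.A_le
  have hTA := h.T_le
  obtain ⟨hk, -⟩ := h.side.k_ge (by omega)
  rcases h.tor with ⟨h1, -⟩ | ⟨-, hT⟩
  · omega
  have hkV : k ∣ V U (m + m) := by
    rw [← hm, ← hT]
    exact h.kT.mul_right _
  obtain ⟨-, hle⟩ := le_of_even h.hU (h.kreg m (by omega) (by omega)) hkV
  have h7 := le_V_nat U i0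
  rw [← hT, hm, pow_add] at h7
  set d := Nat.gcd n (V U 1)
  set y := U.natAbs ^ m
  have h8 : 12 * (y * y) ≤ 12 + q * (q ^ 3 + 1) := by
    have e1 : T * d ≤ A * d := Nat.mul_le_mul_right _ hTA
    have e2 : (2 * A) * (6 * d) ≤ (q ^ 3 + 1) * q := Nat.mul_le_mul hA h6
    linarith
  have h9 : q ^ 2 ≤ 3 * y + q + 2 := by
    have : q ≤ q ^ 2 := Nat.le_self_pow two_ne_zero q
    omega
  zify at h8 h9 hq
  have h10 : (q : ℤ) ^ 2 - q - 2 ≤ 3 * (y : ℤ) := by linarith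
  have hq2 : 50 * (q : ℤ) ≤ (q : ℤ) ^ 2 := by
    rw [sq]; exact mul_le_mul_of_nonneg_right hq (by linarith)
  have hq3 : 50 * (q : ℤ) ^ 2 ≤ (q : ℤ) ^ 3 := by
    rw [show (q : ℤ) ^ 3 = q * q ^ 2 by ring]; exact mul_le_mul_of_nonneg_right hq (by positivity)
  have hq4 : 50 * (q : ℤ) ^ 3 ≤ (q : ℤ) ^ 4 := by
    rw [show (q : ℤ) ^ 4 = q * q ^ 3 by ring]; exact mul_le_mul_of_nonneg_right hq (by positivity)
  have h11 : (0 : ℤ) ≤ (q : ℤ) ^ 2 - q - 2 := by linarith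
  have h12 : ((q : ℤ) ^ 2 - q - 2) ^ 2 ≤ (3 * (y : ℤ)) ^ 2 := pow_le_pow_left₀ h11 h10 2
  have h13 : 12 * ((q : ℤ) ^ 2 - q - 2) ^ 2 ≤ 108 + 9 * ((q : ℤ) * (q ^ 3 + 1)) := by linarith
  have h14 : 3 * (q : ℤ) ^ 4 + 39 * q ≤ 24 * (q : ℤ) ^ 3 + 36 * (q : ℤ) ^ 2 + 60 := by linarith
  linarith

/-- a power of a prime with `q² = 2 u² + 1` -/
theorem pell {q u : ℕ} (hq : 5 ≤ q) (hpp : ∃ v f : ℕ, v.Prime ∧ u = v ^ f) (h : q ^ 2 = 2 * u ^ 2 + 1) : False := by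
  obtain ⟨v, f, hv, rfl⟩ := hpp
  have hq2 : q % 2 = 1 := by
    have : q ^ 2 % 2 = 1 := by omega
    rw [Nat.pow_mod] at this
    rcases Nat.mod_two_eq_zero_or_one q with h1 | h1
    · rw [h1] at this; norm_num at this
    · exact h1
  obtain ⟨c, rfl⟩ : ∃ c, q = 2 * c + 1 := ⟨q / 2, by omega⟩
  have h1 : (v ^ f) ^ 2 = 2 * (c * (c + 1)) := by linarith
  have h2 : 2 ∣ v ^ f := Nat.prime_two.dvd_of_dvd_pow (h1 ▸ Dvd.intro _ rfl)
  have h3 : v = 2 := ((Nat.prime_dvd_prime_iff_eq Nat.prime_two hv).1 (Nat.prime_two.dvd_of_dvd_pow h2)).symm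
  subst h3
  have h4 : c ∣ 2 ^ (f * 2) := by
    rw [pow_mul, h1]
    exact Dvd.dvd.mul_left (Dvd.intro _ rfl) _
  have h5 : c + 1 ∣ 2 ^ (f * 2) := by
    rw [pow_mul, h1]
    exact Dvd.dvd.mul_left (Dvd.intro_left _ rfl) _
  obtain ⟨a, -, ha⟩ := (Nat.dvd_prime_pow Nat.prime_two).1 h4
  obtain ⟨b, -, hb⟩ := (Nat.dvd_prime_pow Nat.prime_two).1 h5
  rcases Nat.eq_zero_or_pos a with rfl | ha0
  · rw [pow_zero] at ha; omega
  · rcases Nat.eq_zero_or_pos b with rfl | hb0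
    · rw [pow_zero] at hb; omega
    · have e1 : 2 ∣ 2 ^ a := dvd_pow_self 2 (by omega)
      have e2 : 2 ∣ 2 ^ b := dvd_pow_self 2 (by omega)
      omega

/-- `n = 4`, `i0 = 3`, `z` of class `4` -/
theorem ND.four (h : ND q k A k' B U 4 3 T) (hq : 50 ≤ q) {z : ℕ} (hz : 2 * z = q ^ 2 + 1) (hc : Nat.Coprime z (V U 2))
    (hd : z ∣ V U 4) : False := by
  obtain ⟨h1, -⟩ := le_of_even (h := 2) h.hU hc hd
  have h2 : (U ^ 2 + 1).natAbs = U.natAbs ^ 2 + 1 := by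
    have e1 : U ^ 2 + 1 = ((U.natAbs ^ 2 + 1 : ℕ) : ℤ) := by
      push_cast
      rw [sq_abs]
    rw [e1, Int.natAbs_natCast]
  rw [h2] at h1
  have h3 : U.natAbs ^ 3 ≤ 2 * q ^ 3 + 3 := by
    have e1 := le_V_nat U 3
    have hA := h.A_le
    have hTA := h.T_le
    rcases h.tor with ⟨h5, -⟩ | ⟨-, hT⟩
    · omega
    · have e2 := h.dn_le_n
      have e3 : T * Nat.gcd 4 (V U 1) ≤ A * 4 := Nat.mul_le_mul hTA e2
      omega
  have hcop : ¬ U.natAbs = q := by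
    intro he
    have h5 := h.cop
    have h6 : IsCoprime (|U|) (q : ℤ) := by
      rcases abs_choice U with h7 | h7 <;> rw [h7]
      · exact h5
      · exact h5.neg_left
    rw [← natAbs_cast, he, isCoprime_self, Int.isUnit_iff] at h6
    omega
  have hpp := h.pp
  set u := U.natAbs
  obtain ⟨g, hg⟩ := h1
  have h5 : g * (q ^ 2 + 1) = 2 * (u ^ 2 + 1) := by
    rw [hg, ← hz]; ring
  have h6 : g < 4 := by
    by_contra hcon
    rw [not_lt] at hcon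
    have e1 : 4 * (q ^ 2 + 1) ≤ g * (q ^ 2 + 1) := Nat.mul_le_mul_right _ hcon
    have e2 : 2 * q ^ 2 + 1 ≤ u ^ 2 := by omega
    have e3 : (2 * q ^ 2) ^ 3 ≤ (u ^ 2) ^ 3 := Nat.pow_le_pow_left (by omega) 3
    have e4 : (u ^ 3) ^ 2 ≤ (2 * q ^ 3 + 3) ^ 2 := Nat.pow_le_pow_left h3 2
    have e5 : (u ^ 2) ^ 3 = (u ^ 3) ^ 2 := by ring
    have e6 : 50 ^ 3 ≤ q ^ 3 := Nat.pow_le_pow_left hq 3
    have e7 : 50 ^ 3 * q ^ 3 ≤ q ^ 3 * q ^ 3 := Nat.mul_le_mul_right _ e6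
    linarith
  interval_cases g
  · omega
  · exact pell (q := q) (u := u) (by omega) hpp (by omega)
  · apply hcop
    have : u ^ 2 = q ^ 2 := by omega
    exact Nat.pow_left_injective (by norm_num) this
  · have e1 : u ^ 2 % 3 = 0 ∨ u ^ 2 % 3 = 1 := by
      have : u % 3 = 0 ∨ u % 3 = 1 ∨ u % 3 = 2 := by omega
      rcases this with h | h | h <;> rw [Nat.pow_mod, h] <;> norm_num
    omega

/-- `n = 2 m`, `m ≥ 3`, `i0 = n - 1`, `z` of class `n` -/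
theorem ND.even (h : ND q k A k' B U n i0 T) (hq : 50 ≤ q) (hi : i0 + 1 = n) {m : ℕ} (hm : n = m + m) (hm3 : 3 ≤ m)
    {z : ℕ} (hz : 2 * z = q ^ 2 + 1) (hc1 : Nat.Coprime z (V U 1)) (hc : Nat.Coprime z (V U m))
    (hd : z ∣ V U n) : False := by
  have hle := (le_of_even (h := m) h.hU hc (hm ▸ hd)).2
  have hzS := dvd_S hc1 hd
  obtain ⟨d, hd1, hA, hB⟩ := h.sgn
  obtain ⟨a, ha⟩ := h.TA
  have hu := two_le_natAbs h.hU
  have hδ := sub_one_pos h.hU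
  have ha0 : 0 < a := by
    rcases Nat.eq_zero_or_pos a with rfl | h1
    · have := h.A_pos; omega
    · exact h1
  rcases h.eqn hA ha with ⟨h1, -⟩ | ⟨-, hE⟩
  · omega
  -- `X = 2 a δ'`
  obtain ⟨δ', hδ'⟩ := Nat.gcd_dvd_right n (V U 1)
  have hdn0 := h.dn_pos
  have hδi : |U - 1| = (Nat.gcd n (V U 1) : ℤ) * δ' := by
    rw [← V_one]
    exact_mod_cast hδ'
  set D : ℤ := (Nat.gcd n (V U 1) : ℤ) with hD
  have hDpos : 0 < D := by rw [hD]; exact_mod_cast hdn0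
  have hX : (2 * (a : ℤ) * δ') * |S U i0| = (q : ℤ) ^ 3 + d := by
    apply mul_left_cancel₀ (hDpos.ne')
    rw [← hE, hδi]
    ring
  set X : ℤ := 2 * (a : ℤ) * δ' with hXdef
  have hδ'0 : (0 : ℤ) < δ' := by
    have h2 : 0 < |U - 1| := by omega
    rw [hδi] at h2
    exact (mul_pos_iff_of_pos_left hDpos).1 h2
  have hX0 : 0 < X := by positivity
  obtain ⟨σ, hσ, hσS⟩ := exists_sign (S U i0)
  have hσ2 : σ * σ = 1 := by rcases hσ with rfl | rfl <;> norm_num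
  have hqz : (2 : ℤ) * z = (q : ℤ) ^ 2 + 1 := by exact_mod_cast hz
  have hq' : (50 : ℤ) ≤ q := by exact_mod_cast hq
  have hq2 : 50 * (q : ℤ) ≤ (q : ℤ) ^ 2 := by
    rw [sq]; exact mul_le_mul_of_nonneg_right hq' (by linarith)
  have hq3 : 50 * (q : ℤ) ^ 2 ≤ (q : ℤ) ^ 3 := by
    rw [show (q : ℤ) ^ 3 = q * q ^ 2 by ring]; exact mul_le_mul_of_nonneg_right hq' (by positivity)
  have hSn : S U n = U * S U i0 + 1 := by rw [← hi, S_succ]
  -- divisibility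
  have h2 : (z : ℤ) ∣ X * σ - U * (q - d) := by
    have e1 : X * σ - U * (q - d) = (X * σ) * S U n - z * (2 * U * q) := by
      rw [hSn]
      rw [← hσS] at hX
      linear_combination (-U) * hX + U * q * hqz
    rw [e1]
    exact dvd_sub (Dvd.dvd.mul_left hzS _) (Dvd.intro _ rfl)
  -- `X ≤ 2 q`
  have hV : (U.natAbs : ℤ) ^ i0 ≤ |S U i0| * ((U.natAbs : ℤ) + 1) + 1 := by
    have e1 := le_V U i0
    rw [← abs_S_mul, ← natAbs_cast] at e1
    have e2 : |S U i0| * |U - 1| ≤ |S U i0| * ((U.natAbs : ℤ) + 1) := by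
      apply mul_le_mul_of_nonneg_left _ (abs_nonneg _)
      rw [natAbs_cast]
      exact sub_one_le U
    linarith
  have hu' : (2 : ℤ) ≤ (U.natAbs : ℤ) := by exact_mod_cast hu
  set u : ℤ := (U.natAbs : ℤ) with hudef
  have hle' : (z : ℤ) ≤ u ^ m + 1 := by
    rw [hudef]
    exact_mod_cast hle
  have h3 : (q : ℤ) ^ 3 + d ≤ (q : ℤ) ^ 3 + 1 := by rcases hd1 with rfl | rfl <;> linarith
  have hpow : u ^ 2 * (z - 1) ≤ |S U i0| * (u + 1) + 1 := by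
    have e1 : u ^ i0 = u ^ (m - 1) * u ^ m := by
      rw [← pow_add]
      congr 1
      omega
    have e2 : u ^ 2 ≤ u ^ (m - 1) := pow_le_pow_right₀ (by omega) (by omega)
    have e3 : u ^ 2 * (z - 1) ≤ u ^ (m - 1) * u ^ m := by
      have e4 : u ^ 2 * (z - 1) ≤ u ^ 2 * u ^ m := mul_le_mul_of_nonneg_left (by linarith) (by positivity)
      have e5 : u ^ 2 * u ^ m ≤ u ^ (m - 1) * u ^ m := mul_le_mul_of_nonneg_right e2 (by positivity)
      linarith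
    linarith
  have hX2 : X ≤ 2 * q := by
    by_contra hcon
    rw [not_le] at hcon
    have e1 : (2 * (q : ℤ) + 1) * (u ^ 2 * (z - 1) - 1) ≤ X * (|S U i0| * (u + 1)) := by
      apply mul_le_mul (by linarith) (by linarith) _ hX0.le
      have e0 : (1 : ℤ) ≤ z - 1 := by linarith
      have e0' : 1 * 1 ≤ u ^ 2 * ((z : ℤ) - 1) := mul_le_mul (by nlinarith) e0 (by norm_num) (by positivity)
      linarith
    have e2 : X * (|S U i0| * (u + 1)) = ((q : ℤ) ^ 3 + d) * (u + 1) := by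
      rw [← hX]; ring
    have e3 : ((q : ℤ) ^ 3 + d) * (u + 1) ≤ ((q : ℤ) ^ 3 + 1) * (u + 1) :=
      mul_le_mul_of_nonneg_right h3 (by linarith)
    have e4 : 4 * (u + 1) ≤ 3 * u ^ 2 := by nlinarith
    have e5 : ((q : ℤ) ^ 3 + 1) * (4 * (u + 1)) ≤ ((q : ℤ) ^ 3 + 1) * (3 * u ^ 2) :=
      mul_le_mul_of_nonneg_left e4 (by positivity)
    have e6 : 4 * ((2 * (q : ℤ) + 1) * (u ^ 2 * (z - 1) - 1)) ≤ ((q : ℤ) ^ 3 + 1) * (3 * u ^ 2) := by linarith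
    have e7 : (4 : ℤ) ≤ u ^ 2 := by nlinarith
    have e8 : 4 * ((2 * (q : ℤ) + 1) * (u ^ 2 * (z - 1) - 1)) - ((q : ℤ) ^ 3 + 1) * (3 * u ^ 2) =
        u ^ 2 * ((q : ℤ) ^ 3 + 2 * q ^ 2 - 4 * q - 5) - (8 * q + 4) := by
      linear_combination (2 * (2 * (q : ℤ) + 1) * u ^ 2) * hqz
    have e9 : (4 : ℤ) * ((q : ℤ) ^ 3 + 2 * q ^ 2 - 4 * q - 5) ≤ u ^ 2 * ((q : ℤ) ^ 3 + 2 * q ^ 2 - 4 * q - 5) := by
      apply mul_le_mul_of_nonneg_right e7
      linarith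
    linarith
  -- `2 u + 6 ≤ q`
  have hu6 : 2 * u + 6 ≤ q := by
    by_contra hcon
    rw [not_le] at hcon
    have e1 := h.u_le'
    have e2 : U.natAbs ^ 4 ≤ U.natAbs ^ (n - 2) := Nat.pow_le_pow_right (by omega) (by omega)
    have e3 : 2 * U.natAbs ^ 4 ≤ 3 * (q ^ 3 + 1) := by omega
    have e4 : q ≤ 2 * U.natAbs + 5 := by
      have : (q : ℤ) < 2 * (U.natAbs : ℤ) + 6 := hcon
      omega
    have e5 : q ^ 3 ≤ (2 * U.natAbs + 5) ^ 3 := Nat.pow_le_pow_left e4 3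
    obtain ⟨e, he⟩ : ∃ e, U.natAbs = 23 + e := ⟨U.natAbs - 23, by omega⟩
    rw [he] at e3 e5
    have f4 : 0 ≤ e ^ 4 := by positivity
    have f3 : 0 ≤ e ^ 3 := by positivity
    have f2 : 0 ≤ e ^ 2 := by positivity
    linarith
  -- equality
  have h8 : X * σ - U * (q - d) = 0 := by
    apply Int.eq_zero_of_abs_lt_dvd h2
    have e1 : |X * σ - U * (q - d)| ≤ |X * σ| + |U * (q - d)| := abs_sub _ _
    have e2 : |X * σ| = X := by
      rw [abs_mul, abs_of_pos hX0]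
      rcases hσ with rfl | rfl <;> simp
    have e3 : |U * (q - d)| ≤ u * (q + 1) := by
      rw [abs_mul, hudef, natAbs_cast]
      apply mul_le_mul_of_nonneg_left _ (abs_nonneg _)
      rcases hd1 with rfl | rfl
      · rw [abs_of_pos (by linarith)]; linarith
      · rw [abs_of_pos (by linarith)]; linarith
    have e4 : (2 * u + 6) * (q + 1) ≤ (q : ℤ) * (q + 1) := mul_le_mul_of_nonneg_right hu6 (by linarith)
    linarith
  have h9 : ((q : ℤ) - d) ∣ 1 * (q * (q ^ 2 + 1)) := by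
    have e1 : (q : ℤ) ^ 3 + d = 1 * (q * (q ^ 2 + 1)) - (q - d) := by ring
    have e2 : ((q : ℤ) - d) ∣ (q : ℤ) ^ 3 + d := by
      refine ⟨U * (S U i0), ?_⟩
      rw [← hX, ← hσS]
      linear_combination (S U i0) * h8
    rw [e1] at e2
    exact (dvd_sub_left dvd_rfl).1 e2
  have h10 := Int.le_of_dvd (by norm_num) (sub_dvd_two hd1 h9)
  rcases hd1 with rfl | rfl <;> linarith

/-- **The `z`-lemma**, `q ≥ 50`. -/
theorem ND.no_z (h : ND q k A k' B U n i0 T) (hq : 50 ≤ q) {z s : ℕ} (hz : 2 * z = q ^ 2 + 1) (hs3 : 3 ≤ s)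
    (hsn : s ≤ n) (hsi : s ≠ i0) (hd : z ∣ V U s) (hreg : ∀ j : ℕ, 1 ≤ j → j < s → Nat.Coprime z (V U j))
    (hcz : IsCoprime U (z : ℤ)) : False := by
  have h4 := h.n4
  have hz1 := hreg 1 le_rfl (by omega)
  by_cases hlt : s < i0
  · obtain ⟨d, hd1, hA, hB⟩ := h.sgn
    obtain ⟨a, ha⟩ := h.TA
    have ha0 : 0 < a := by
      rcases Nat.eq_zero_or_pos a with rfl | h1
      · have := h.A_pos; omega
      · exact h1
    have hδ := sub_one_pos h.hU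
    obtain ⟨m, hm⟩ : ∃ m, i0 = m + s := ⟨i0 - s, by omega⟩
    have hdn : (Nat.gcd n (V U 1) : ℤ) ≤ |U - 1| := by
      rw [← V_one]
      exact_mod_cast h.dn_le
    have hzS := dvd_S hz1 hd
    have hE : ∃ C : ℤ, 0 < C ∧ 2 * C * |S U i0| = (Nat.gcd n (V U 1) : ℤ) * ((q : ℤ) ^ 3 + d) := by
      rcases h.eqn hA ha with ⟨h1, h2⟩ | ⟨h1, h2⟩
      · exact ⟨a, by exact_mod_cast ha0, by rw [h1]; exact h2⟩
      · exact ⟨a * |U - 1|, mul_pos (by exact_mod_cast ha0) (by omega), h2⟩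
    obtain ⟨C, hC, hE⟩ := hE
    rw [hm] at hE
    exact zgen (m := m) (s := s) (z := (z : ℤ)) hd1 (by exact_mod_cast hq) (by exact_mod_cast hz) h.hU (by omega)
      (by omega) (by omega) hC (by exact_mod_cast h.dn_pos) hdn (by exact_mod_cast h.d_le hq) hE hzS h.cop hcz
  · -- `s = n`, `i0 = n - 1`
    have hi : i0 + 1 = n := by
      rcases h.tor with ⟨h1, -⟩ | ⟨h1, -⟩ <;> omega
    obtain rfl : s = n := by omega
    have hev := h.odd_n hq hi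
    obtain ⟨m, hm⟩ : ∃ m, s = m + m := ⟨s / 2, by omega⟩
    rcases Nat.lt_or_ge m 3 with h3 | h3
    · obtain rfl : m = 2 := by omega
      subst hm
      obtain rfl : i0 = 3 := by omega
      exact h.four hq hz (hreg 2 (by norm_num) (by norm_num)) hd
    · exact h.even hq hi hm h3 hz hz1 (hreg m (by omega) (by omega)) hd

end Cfsg.Agent.R2.Spec.X4.H4
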